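import Mathlib

/-!
# Transvection pairs of a linear group over a prime field
-/

set_option autoImplicit false
set_option linter.style.haveILetI false

namespace Cfsg.Agent.McLaughlin

open Module

variable {p : ℕ} [Fact p.Prime] {V : Type*} [AddCommGroup V] [Module (ZMod p) V]

/-- The transvection `x ↦ x + φ x • a` (the identity if `φ a ≠ 0`). -/
noncomputable def tv (a : V) (φ : Dual (ZMod p) V) : V ≃ₗ[ZMod p] V := by
  classical
  exact if h : φ a = 0 then LinearEquiv.transvection h else 1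

theorem tv_apply {a : V} {φ : Dual (ZMod p) V} (h : φ a = 0) (x : V) : tv a φ x = x + φ x • a := by
  simp [tv, h, LinearMap.transvection.apply]

theorem tv_eq_one {a : V} {φ : Dual (ZMod p) V} (h : a = 0 ∨ φ = 0) : tv a φ = 1 := by
  have h' : φ a = 0 := by rcases h with rfl | rfl <;> simp
  refine LinearEquiv.ext fun x => ?_
  rw [tv_apply h']
  rcases h with rfl | rfl <;> simp

theorem tv_smul_swap (c : ZMod p) {a : V} {φ : Dual (ZMod p) V} (h : φ a = 0) :
    tv (c • a) φ = tv a (c • φ) := by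
  refine LinearEquiv.ext fun x => ?_
  rw [tv_apply (by simp [h]), tv_apply (by simp [h]), LinearMap.smul_apply, smul_eq_mul, smul_smul, mul_comm]

theorem tv_mul_left {a b : V} {φ : Dual (ZMod p) V} (ha : φ a = 0) (hb : φ b = 0) :
    tv a φ * tv b φ = tv (a + b) φ := by
  refine LinearEquiv.ext fun x => ?_
  rw [LinearEquiv.mul_apply, tv_apply hb, tv_apply ha, tv_apply (by simp [ha, hb]), map_add, map_smul, hb,
    smul_zero, add_zero, smul_add, add_assoc, add_comm (φ x • b)]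

theorem tv_mul_right {a : V} {φ ψ : Dual (ZMod p) V} (hφ : φ a = 0) (hψ : ψ a = 0) :
    tv a φ * tv a ψ = tv a (φ + ψ) := by
  refine LinearEquiv.ext fun x => ?_
  rw [LinearEquiv.mul_apply, tv_apply hψ, tv_apply hφ, tv_apply (by simp [hφ, hψ]), map_add, map_smul, hφ,
    smul_zero, add_zero, LinearMap.add_apply, add_smul, add_assoc, add_comm (ψ x • a)]

theorem tv_pow {a : V} {φ : Dual (ZMod p) V} (h : φ a = 0) (n : ℕ) : tv a φ ^ n = tv ((n : ZMod p) • a) φ := by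
  induction n with
  | zero => rw [pow_zero, Nat.cast_zero, zero_smul, tv_eq_one (Or.inl rfl)]
  | succ n ih => rw [pow_succ, ih, tv_mul_left (by simp [h]) h, Nat.cast_succ, add_smul, one_smul]

theorem tv_inv {a : V} {φ : Dual (ZMod p) V} (h : φ a = 0) : (tv a φ)⁻¹ = tv (-a) φ := by
  rw [inv_eq_iff_mul_eq_one, tv_mul_left h (by simp [h]), add_neg_cancel, tv_eq_one (Or.inl rfl)]

theorem conj_tv (g : V ≃ₗ[ZMod p] V) {a : V} {φ : Dual (ZMod p) V} (h : φ a = 0) :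
    g * tv a φ * g⁻¹ = tv (g a) (φ ∘ₗ (g.symm : V →ₗ[ZMod p] V)) := by
  refine LinearEquiv.ext fun x => ?_
  rw [LinearEquiv.mul_apply, LinearEquiv.mul_apply, tv_apply h, tv_apply (by simp [h])]
  show g (g.symm x + φ (g.symm x) • a) = _
  rw [map_add, map_smul, LinearEquiv.apply_symm_apply]
  rfl

/-- `(a, φ)` is a transvection pair of `H`. -/
def Mem (H : Subgroup (V ≃ₗ[ZMod p] V)) (a : V) (φ : Dual (ZMod p) V) : Prop :=
  a ≠ 0 ∧ φ ≠ 0 ∧ φ a = 0 ∧ tv a φ ∈ H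

/-- `H` is generated by transvections and has no nontrivial normal `p`-subgroup. -/
structure Setup (H : Subgroup (V ≃ₗ[ZMod p] V)) : Prop where
  odd : p ≠ 2
  gen : H ≤ Subgroup.closure {t | ∃ a φ, Mem H a φ ∧ tv a φ = t}
  noNormal : ∀ N : Subgroup H, N.Normal → IsPGroup p N → N = ⊥

variable {H : Subgroup (V ≃ₗ[ZMod p] V)} {a b : V} {φ ψ : Dual (ZMod p) V}

theorem three_le (hH : Setup H) : 3 ≤ p := by
  have := (Fact.out : p.Prime).two_le
  have := hH.odd
  omega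

theorem Mem.smul (h : Mem H a φ) {c : ZMod p} (hc : c ≠ 0) : Mem H (c • a) φ := by
  refine ⟨smul_ne_zero hc h.1, h.2.1, by simp [h.2.2.1], ?_⟩
  rw [← ZMod.natCast_zmod_val c, ← tv_pow h.2.2.1]
  exact pow_mem h.2.2.2 _

theorem Mem.smul_axis (h : Mem H a φ) {c : ZMod p} (hc : c ≠ 0) : Mem H a (c • φ) := by
  refine ⟨h.1, smul_ne_zero hc h.2.1, by simp [h.2.2.1], ?_⟩
  rw [← tv_smul_swap c h.2.2.1]
  exact (h.smul hc).2.2.2

theorem Mem.add (h : Mem H a φ) (h' : Mem H b φ) (hne : a + b ≠ 0) : Mem H (a + b) φ :=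
  ⟨hne, h.2.1, by simp [h.2.2.1, h'.2.2.1], tv_mul_left h.2.2.1 h'.2.2.1 ▸ mul_mem h.2.2.2 h'.2.2.2⟩

theorem Mem.add_axis (h : Mem H a φ) (h' : Mem H a ψ) (hne : φ + ψ ≠ 0) : Mem H a (φ + ψ) :=
  ⟨h.1, hne, by simp [h.2.2.1, h'.2.2.1], tv_mul_right h.2.2.1 h'.2.2.1 ▸ mul_mem h.2.2.2 h'.2.2.2⟩

theorem Mem.conj (h : Mem H a φ) {g : V ≃ₗ[ZMod p] V} (hg : g ∈ H) :
    Mem H (g a) (φ ∘ₗ (g.symm : V →ₗ[ZMod p] V)) := by
  refine ⟨fun e => h.1 (g.injective (e.trans (map_zero g).symm)), fun e => h.2.1 (LinearMap.ext fun x => ?_), by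
    simp [h.2.2.1], conj_tv g h.2.2.1 ▸ mul_mem (mul_mem hg h.2.2.2) (inv_mem hg)⟩
  have := LinearMap.congr_fun e (g x)
  simpa using this

/-- Conjugation of one transvection by another. -/
theorem Mem.conj_tv (h : Mem H b ψ) (h' : Mem H a φ) : Mem H (b + φ b • a) (ψ - ψ a • φ) := by
  have e := h.conj h'.2.2.2
  rw [tv_apply h'.2.2.1] at e
  have e2 : ψ ∘ₗ ((tv a φ).symm : V →ₗ[ZMod p] V) = ψ - ψ a • φ := by
    refine LinearMap.ext fun x => ?_
    show ψ ((tv a φ)⁻¹ x) = _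
    rw [tv_inv h'.2.2.1, tv_apply (by simp [h'.2.2.1])]
    simp [mul_comm]
    ring
  rwa [e2] at e

/-- A one-way pair gives its diagonal. -/
theorem Mem.oneway (h : Mem H a φ) (h' : Mem H b ψ) (hφ : φ b ≠ 0) (hψ : ψ a = 0) : Mem H a ψ := by
  have e := h'.conj_tv h
  rw [hψ, zero_smul, sub_zero] at e
  have h1 := e.add (h'.smul (neg_ne_zero.mpr one_ne_zero)) (by simp [hφ, h.1])
  have h2 := h1.smul (inv_ne_zero hφ)
  simpa [smul_smul, hφ] using h2

/-- The same diagonal, from the other end. -/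
theorem Mem.oneway' (h : Mem H a φ) (h' : Mem H b ψ) (hφ : φ b ≠ 0) (hψ : ψ a = 0) (c : ZMod p) :
    Mem H (b + c • a) ψ ∨ b + c • a = 0 := by
  by_cases hc : b + c • a = 0
  · exact Or.inr hc
  by_cases hc0 : c = 0
  · exact Or.inl (by simpa [hc0] using h')
  exact Or.inl (h'.add ((h.oneway h' hφ hψ).smul hc0) hc)

theorem map_le_of_tv (hH : Setup H) {W : Submodule (ZMod p) V}
    (h : ∀ a φ, Mem H a φ → ∀ x ∈ W, φ x • a ∈ W) {g : V ≃ₗ[ZMod p] V} (hg : g ∈ H) :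
    ∀ x ∈ W, g x ∈ W := by
  have hg' := hH.gen hg
  clear hg
  induction hg' using Subgroup.closure_induction'' with
  | mem t ht =>
    obtain ⟨a, φ, ht', rfl⟩ := ht
    intro x hx
    rw [tv_apply ht'.2.2.1]
    exact W.add_mem hx (h a φ ht' x hx)
  | inv_mem t ht =>
    obtain ⟨a, φ, ht', rfl⟩ := ht
    intro x hx
    rw [tv_inv ht'.2.2.1, tv_apply (by simp [ht'.2.2.1]), smul_neg]
    exact W.add_mem hx (W.neg_mem (h a φ ht' x hx))
  | one => exact fun x hx => hx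
  | mul u v hu hv ihu ihv => exact fun x hx => ihu _ (ihv x hx)

/-- An element stabilising an invariant chain `R ≤ W ≤ V` acts trivially. -/
theorem stable_eq_one (hH : Setup H) {R W : Submodule (ZMod p) V}
    (hR : ∀ g ∈ H, ∀ x ∈ R, g x ∈ R) (hW : ∀ g ∈ H, ∀ x ∈ W, g x ∈ W) {g : V ≃ₗ[ZMod p] V} (hg : g ∈ H)
    (h0 : ∀ x ∈ R, g x = x) (h1 : ∀ x ∈ W, g x - x ∈ R) (h2 : ∀ x, g x - x ∈ W) : g = 1 := by
  classical
  let N : Subgroup H :=
    { carrier := {k | (∀ x ∈ R, (k : V ≃ₗ[ZMod p] V) x = x) ∧ (∀ x ∈ W, (k : V ≃ₗ[ZMod p] V) x - x ∈ R) ∧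
        ∀ x, (k : V ≃ₗ[ZMod p] V) x - x ∈ W}
      mul_mem' := fun {k l} hk hl => ⟨fun x hx => (congrArg _ (hl.1 x hx)).trans (hk.1 x hx),
        fun x hx => by
          have e := R.add_mem (hk.2.1 _ (hW l l.2 x hx)) (hl.2.1 x hx)
          rwa [sub_add_sub_cancel] at e,
        fun x => by
          have e := W.add_mem (hk.2.2 ((l : V ≃ₗ[ZMod p] V) x)) (hl.2.2 x)
          rwa [sub_add_sub_cancel] at e⟩
      one_mem' := ⟨fun _ _ => rfl, fun x _ => by simp, fun x => by simp⟩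
      inv_mem' := fun {k} hk => by
        have e : ∀ x, (k : V ≃ₗ[ZMod p] V) ((k : V ≃ₗ[ZMod p] V).symm x) = x :=
          fun x => LinearEquiv.apply_symm_apply _ x
        refine ⟨fun x hx => ?_, fun x hx => ?_, fun x => ?_⟩
        · show (k : V ≃ₗ[ZMod p] V).symm x = x
          exact (k : V ≃ₗ[ZMod p] V).symm_apply_eq.mpr (hk.1 x hx).symm
        · have h := R.neg_mem (hk.2.1 _ (hW (k : V ≃ₗ[ZMod p] V)⁻¹ (inv_mem k.2) x hx))
          rw [neg_sub] at h
          exact (by rw [show (k : V ≃ₗ[ZMod p] V) (((k : V ≃ₗ[ZMod p] V)⁻¹) x) = x from e x] at h; exact h)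
        · have h := W.neg_mem (hk.2.2 ((k : V ≃ₗ[ZMod p] V).symm x))
          rw [neg_sub, e x] at h
          exact h }
  have hN : N.Normal := by
    refine ⟨fun k hk l => ?_⟩
    have key : ∀ x, ((l * k * l⁻¹ : H) : V ≃ₗ[ZMod p] V) x - x = (l : V ≃ₗ[ZMod p] V)
        ((k : V ≃ₗ[ZMod p] V) ((l : V ≃ₗ[ZMod p] V).symm x) - (l : V ≃ₗ[ZMod p] V).symm x) := fun x => by
      rw [map_sub, LinearEquiv.apply_symm_apply]
      rfl
    refine ⟨fun x hx => sub_eq_zero.mp ?_, fun x hx => ?_, fun x => ?_⟩ <;> rw [key]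
    · rw [hk.1 _ (show (l : V ≃ₗ[ZMod p] V).symm x ∈ R from hR _ (inv_mem l.2) x hx), sub_self, map_zero]
    · exact hR _ l.2 _ (hk.2.1 _ (show (l : V ≃ₗ[ZMod p] V).symm x ∈ W from hW _ (inv_mem l.2) x hx))
    · exact hW _ l.2 _ (hk.2.2 _)
  have hpow : ∀ k ∈ N, k ^ p = 1 := by
    intro k hk
    -- `(k - 1) ^ 3 = 0`
    let T : Module.End (ZMod p) V := ((k : V ≃ₗ[ZMod p] V) : V →ₗ[ZMod p] V) - 1
    have hT : T ^ 3 = 0 := by
      refine LinearMap.ext fun x => ?_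
      simp only [pow_succ, pow_zero, one_mul, Module.End.mul_apply, LinearMap.zero_apply]
      exact sub_eq_zero.mpr (hk.1 _ (hk.2.1 _ (hk.2.2 x)))
    rcases subsingleton_or_nontrivial V with hV | hV
    · exact Subtype.ext (LinearEquiv.ext fun x => Subsingleton.elim _ _)
    haveI : CharP (Module.End (ZMod p) V) p :=
      charP_of_injective_algebraMap (algebraMap (ZMod p) (Module.End (ZMod p) V)).injective p
    have hTp : T ^ p = 0 := pow_eq_zero_of_le (three_le hH) hT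
    have hk1 : ((k : V ≃ₗ[ZMod p] V) : V →ₗ[ZMod p] V) = T + 1 := by simp [T]
    refine Subtype.ext (LinearEquiv.toLinearMap_injective ?_)
    rw [Subgroup.coe_pow, Subgroup.coe_one]
    show _ = (1 : Module.End (ZMod p) V)
    rw [show (((k : V ≃ₗ[ZMod p] V) ^ p : V ≃ₗ[ZMod p] V) : Module.End (ZMod p) V) =
      ((k : V ≃ₗ[ZMod p] V) : Module.End (ZMod p) V) ^ p from
      map_pow (LinearEquiv.automorphismGroup.toLinearMapMonoidHom) _ _, hk1,
      add_pow_char_of_commute _ (Commute.one_right T), hTp, zero_add, one_pow]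
  have hbot := hH.noNormal N hN fun k => ⟨1, Subtype.ext (by rw [pow_one]; exact hpow k k.2)⟩
  have hgN : (⟨g, hg⟩ : H) ∈ N := ⟨h0, h1, h2⟩
  rw [hbot, Subgroup.mem_bot] at hgN
  exact congrArg Subtype.val hgN

/-- No transvection pair has its centre in an invariant subspace inside its axis. -/
theorem not_mem_of_type (hH : Setup H) {W : Submodule (ZMod p) V} (hW : ∀ g ∈ H, ∀ x ∈ W, g x ∈ W)
    (h : Mem H a φ) (ha : a ∈ W) : ∃ x ∈ W, φ x ≠ 0 := by
  by_contra hcon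
  push Not at hcon
  have h1 : tv a φ = 1 := stable_eq_one hH (R := W) (W := W) hW hW h.2.2.2
    (fun x hx => by rw [tv_apply h.2.2.1, hcon x hx, zero_smul, add_zero])
    (fun x hx => by rw [tv_apply h.2.2.1, hcon x hx, zero_smul, add_zero, sub_self]; exact W.zero_mem)
    (fun x => by rw [tv_apply h.2.2.1, add_sub_cancel_left]; exact W.smul_mem _ ha)
  refine h.2.1 (LinearMap.ext fun x => ?_)
  have h2 := LinearEquiv.congr_fun h1 x
  rw [tv_apply h.2.2.1, LinearEquiv.coe_one, id_eq] at h2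
  simpa [h.1] using add_left_cancel (h2.trans (add_zero x).symm)

end Cfsg.Agent.McLaughlin
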