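import Cfsg.Agent.Lib.McLaughlin.Basic

/-!
# One class of transvection pairs
-/

set_option autoImplicit false
set_option linter.style.haveILetI false

namespace Cfsg.Agent.McLaughlin

open Module

variable {p : ℕ} [Fact p.Prime] {V : Type*} [AddCommGroup V] [Module (ZMod p) V]

/-- The transvections of two pairs do not commute. -/
def Adj (x y : V × Dual (ZMod p) V) : Prop := x.2 y.1 ≠ 0 ∨ y.2 x.1 ≠ 0

theorem Adj.symm {x y : V × Dual (ZMod p) V} (h : Adj x y) : Adj y x := Or.symm h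

/-- A connected component of non-commuting transvection pairs. -/
structure IsClass (H : Subgroup (V ≃ₗ[ZMod p] V)) (C : Set (V × Dual (ZMod p) V)) : Prop where
  nonempty : C.Nonempty
  mem : ∀ x ∈ C, Mem H x.1 x.2
  adj : ∀ x ∈ C, ∀ y, Mem H y.1 y.2 → Adj x y → y ∈ C
  conn : ∀ x ∈ C, ∀ y ∈ C, Relation.ReflTransGen (fun u v => u ∈ C ∧ v ∈ C ∧ Adj u v) x y

variable {H : Subgroup (V ≃ₗ[ZMod p] V)} {C : Set (V × Dual (ZMod p) V)} {a b x : V}
  {φ ψ : Dual (ZMod p) V}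

/-- Every pair has a neighbour. -/
theorem exists_adj (hH : Setup H) (h : Mem H a φ) : ∃ b ψ, Mem H b ψ ∧ Adj (a, φ) (b, ψ) := by
  by_contra hcon
  push Not at hcon
  have hW : ∀ g ∈ H, ∀ x ∈ Submodule.span (ZMod p) {a}, g x ∈ Submodule.span (ZMod p) {a} :=
    fun g hg => map_le_of_tv hH (fun b ψ hb x hx => by
      have h0 : ψ a = 0 := by_contra fun e => hcon b ψ hb (Or.inr e)
      obtain ⟨c, rfl⟩ := Submodule.mem_span_singleton.mp hx
      simp [h0]) hg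
  obtain ⟨x, hx, hφx⟩ := not_mem_of_type hH hW h (Submodule.mem_span_singleton_self a)
  obtain ⟨c, rfl⟩ := Submodule.mem_span_singleton.mp hx
  exact hφx (by simp [h.2.2.1])

theorem same_centre (hH : Setup H) (hC : IsClass H C) (hφ : (a, φ) ∈ C) (hψ : Mem H a ψ) : (a, ψ) ∈ C := by
  have hm := hC.mem _ hφ
  obtain ⟨b, β, hb, hbφ⟩ := exists_adj hH hm
  have hbC := hC.adj _ hφ (b, β) hb hbφ
  obtain ⟨c, γ, hc, hcψ⟩ := exists_adj hH hψ
  by_cases h1 : β a = 0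
  swap
  · exact hC.adj _ hbC (a, ψ) hψ (Or.inl h1)
  have hφb : φ b ≠ 0 := hbφ.resolve_right (not_not_intro h1)
  by_cases h2 : ψ b = 0
  swap
  · exact hC.adj _ hbC (a, ψ) hψ (Or.inr h2)
  by_cases h3 : γ a = 0
  swap
  · exact hC.adj _ (hC.adj _ hφ (c, γ) hc (Or.inr h3)) (a, ψ) hψ (Or.inl h3)
  have hψc : ψ c ≠ 0 := hcψ.resolve_right (not_not_intro h3)
  by_cases h4 : φ c = 0
  swap
  · exact hC.adj _ (hC.adj _ hφ (c, γ) hc (Or.inl h4)) (a, ψ) hψ (Or.inr hψc)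
  have hs : Mem H a (φ + ψ) := hm.add_axis hψ fun e => hφb (by simpa [h2] using LinearMap.congr_fun e b)
  have hsC := hC.adj _ hbC (a, φ + ψ) hs (Or.inr (by simpa [h2] using hφb))
  exact hC.adj _ (hC.adj _ hsC (c, γ) hc (Or.inl (by simpa [h4] using hψc))) (a, ψ) hψ (Or.inr hψc)

theorem same_axis (hH : Setup H) (hC : IsClass H C) (ha : (a, φ) ∈ C) (hb : Mem H b φ) : (b, φ) ∈ C := by
  have hm := hC.mem _ ha
  obtain ⟨c, γ, hc, hca⟩ := exists_adj hH hm
  have hcC := hC.adj _ ha (c, γ) hc hca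
  obtain ⟨e, ε, he, heb⟩ := exists_adj hH hb
  by_cases h1 : φ c = 0
  swap
  · exact hC.adj _ hcC (b, φ) hb (Or.inr h1)
  have hγa : γ a ≠ 0 := hca.resolve_left (not_not_intro h1)
  by_cases h2 : γ b = 0
  swap
  · exact hC.adj _ hcC (b, φ) hb (Or.inl h2)
  by_cases h3 : φ e = 0
  swap
  · exact hC.adj _ (hC.adj _ ha (e, ε) he (Or.inl h3)) (b, φ) hb (Or.inr h3)
  have hεb : ε b ≠ 0 := heb.resolve_left (not_not_intro h3)
  by_cases h4 : ε a = 0
  swap
  · exact hC.adj _ (hC.adj _ ha (e, ε) he (Or.inr h4)) (b, φ) hb (Or.inl hεb)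
  have hs : Mem H (a + b) φ := hm.add hb fun e0 => hγa (by simpa [h2] using congrArg γ e0)
  have hsC := hC.adj _ hcC (a + b, φ) hs (Or.inl (by simpa [h2] using hγa))
  exact hC.adj _ (hC.adj _ hsC (e, ε) he (Or.inr (by simpa [h4] using hεb))) (b, φ) hb (Or.inl hεb)

theorem smul_centre (hH : Setup H) (hC : IsClass H C) (h : (a, φ) ∈ C) {c : ZMod p} (hc : c ≠ 0) :
    (c • a, φ) ∈ C :=
  same_axis hH hC h ((hC.mem _ h).smul hc)

/-- The class is closed under conjugation by transvections. -/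
theorem conj_mem (hH : Setup H) (hC : IsClass H C) (h : (b, ψ) ∈ C) (ha : Mem H a φ) :
    (b + φ b • a, ψ - ψ a • φ) ∈ C := by
  have hm := (hC.mem _ h).conj_tv ha
  by_cases hadj : Adj (b, ψ) (a, φ)
  · refine hC.adj _ (hC.adj _ h (a, φ) ha hadj) _ hm ?_
    rcases hadj with e | e
    · exact Or.inr (by simpa [ha.2.2.1] using e)
    · exact Or.inl (by simpa [ha.2.2.1] using e)
  · rw [Adj, not_or, not_not, not_not] at hadj
    simpa [hadj.1, hadj.2] using h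

/-- The centres of the class. -/
def Pt (C : Set (V × Dual (ZMod p) V)) (a : V) : Prop := ∃ φ, (a, φ) ∈ C

/-- The axes at a centre. -/
def Ax (H : Subgroup (V ≃ₗ[ZMod p] V)) (a : V) : Submodule (ZMod p) (Dual (ZMod p) V) where
  carrier := {φ | φ = 0 ∨ Mem H a φ}
  add_mem' := by
    rintro φ ψ (rfl | h) (rfl | h')
    · exact Or.inl (add_zero _)
    · exact Or.inr (by rwa [zero_add])
    · exact Or.inr (by rwa [add_zero])
    · by_cases e : φ + ψ = 0
      · exact Or.inl e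
      · exact Or.inr (h.add_axis h' e)
  zero_mem' := Or.inl rfl
  smul_mem' := by
    rintro c φ (rfl | h)
    · exact Or.inl (smul_zero c)
    · by_cases hc : c = 0
      · exact Or.inl (by rw [hc, zero_smul])
      · exact Or.inr (h.smul_axis hc)

theorem Ax.mem_iff : φ ∈ Ax H a ↔ φ = 0 ∨ Mem H a φ := Iff.rfl

theorem Ax.mem_of (h : φ ∈ Ax H a) (hne : φ ≠ 0) : Mem H a φ := (Ax.mem_iff.mp h).resolve_left hne

theorem Ax.mem_of_apply (h : φ ∈ Ax H a) (hne : φ b ≠ 0) : Mem H a φ :=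
  Ax.mem_of h fun e => hne (by simp [e])

theorem Ax.apply_self (h : φ ∈ Ax H a) : φ a = 0 := by
  rcases Ax.mem_iff.mp h with rfl | h
  exacts [rfl, h.2.2.1]

theorem mem_class (hH : Setup H) (hC : IsClass H C) (ha : Pt C a) (h : Mem H a φ) : (a, φ) ∈ C :=
  ha.elim fun _ hψ => same_centre hH hC hψ h

theorem Pt.mem_ax (hC : IsClass H C) (h : (a, φ) ∈ C) : φ ∈ Ax H a := Or.inr (hC.mem _ h)

theorem Pt.ne_zero (hC : IsClass H C) (ha : Pt C a) : a ≠ 0 := ha.elim fun _ h => (hC.mem _ h).1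

theorem Pt.smul (hH : Setup H) (hC : IsClass H C) (ha : Pt C a) {c : ZMod p} (hc : c ≠ 0) : Pt C (c • a) :=
  ha.elim fun φ h => ⟨φ, smul_centre hH hC h hc⟩

/-- Some axis at `a` is nonzero at `b`. -/
def Nb (H : Subgroup (V ≃ₗ[ZMod p] V)) (a b : V) : Prop := ∃ φ ∈ Ax H a, φ b ≠ 0

/-- The common zeros of the axes of the class. -/
def fixS (C : Set (V × Dual (ZMod p) V)) : Submodule (ZMod p) V where
  carrier := {x | ∀ y ∈ C, y.2 x = 0}
  add_mem' := fun {u v} hu hv y hy => by rw [map_add, hu y hy, hv y hy, add_zero]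
  zero_mem' := fun y _ => map_zero _
  smul_mem' := fun c u hu y hy => by rw [map_smul, hu y hy, smul_zero]

/-- The span of the centres of the class. -/
def spanS (C : Set (V × Dual (ZMod p) V)) : Submodule (ZMod p) V :=
  Submodule.span (ZMod p) (Prod.fst '' C)

theorem mem_spanS (ha : Pt C a) : a ∈ spanS C :=
  ha.elim fun φ h => Submodule.subset_span ⟨(a, φ), h, rfl⟩

theorem fixS_invariant (hH : Setup H) (hC : IsClass H C) : ∀ g ∈ H, ∀ x ∈ fixS C, g x ∈ fixS C :=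
  fun g hg => map_le_of_tv hH (fun a φ ha x hx => by
    intro y hy
    have h := hx _ (conj_mem hH hC hy ha)
    simp only [LinearMap.sub_apply, LinearMap.smul_apply, smul_eq_mul, hx y hy, zero_sub, neg_eq_zero,
      mul_eq_zero] at h
    rcases h with h | h <;> simp [h]) hg

theorem spanS_invariant (hH : Setup H) (hC : IsClass H C) : ∀ g ∈ H, ∀ x ∈ spanS C, g x ∈ spanS C :=
  fun g hg => map_le_of_tv hH (fun a φ ha x hx => by
    have key : spanS C ≤ (spanS C).comap (φ.smulRight a) := by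
      refine Submodule.span_le.mpr ?_
      rintro _ ⟨⟨b, ψ⟩, hb, rfl⟩
      have h := (spanS C).sub_mem (mem_spanS ⟨_, conj_mem hH hC hb ha⟩) (mem_spanS ⟨_, hb⟩)
      show φ b • a ∈ spanS C
      simpa using h
    exact key hx) hg

theorem not_mem_fixS (hH : Setup H) (hC : IsClass H C) (ha : Pt C a) : a ∉ fixS C := fun hmem => by
  obtain ⟨φ, h⟩ := ha
  obtain ⟨x, hx, hne⟩ := not_mem_of_type hH (fixS_invariant hH hC) (hC.mem _ h) hmem
  exact hne (hx _ h)

theorem exists_apply_ne_zero (hH : Setup H) (hC : IsClass H C) (ha : Pt C a) (h : φ ∈ Ax H a) (hne : φ ≠ 0) :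
    ∃ b, Pt C b ∧ φ b ≠ 0 := by
  by_contra hcon
  push Not at hcon
  obtain ⟨x, hx, hφx⟩ := not_mem_of_type hH (spanS_invariant hH hC) (Ax.mem_of h hne) (mem_spanS ha)
  refine hφx ?_
  have key : spanS C ≤ LinearMap.ker φ := by
    refine Submodule.span_le.mpr ?_
    rintro _ ⟨⟨b, ψ⟩, hb, rfl⟩
    exact hcon b ⟨ψ, hb⟩
  exact key hx

theorem exists_ne_of_not_mem_fixS (hC : IsClass H C) (hx : x ∉ fixS C) : ∃ d, Pt C d ∧ Nb H d x := by
  by_contra hcon
  push Not at hcon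
  exact hx fun y hy => by_contra fun e => hcon y.1 ⟨y.2, hy⟩ ⟨y.2, Pt.mem_ax hC hy, e⟩

theorem finrank_ax_conj {g : V ≃ₗ[ZMod p] V} (hg : g ∈ H) [Finite V] (a : V) :
    finrank (ZMod p) (Ax H (g a)) = finrank (ZMod p) (Ax H a) := by
  haveI : Module.Finite (ZMod p) V := Module.Finite.of_finite
  have key : ∀ (g : V ≃ₗ[ZMod p] V), g ∈ H → ∀ a, finrank (ZMod p) (Ax H a) ≤ finrank (ZMod p) (Ax H (g a)) := by
    intro g hg a
    rw [← LinearEquiv.finrank_map_eq g.symm.dualMap (Ax H a)]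
    refine Submodule.finrank_mono ?_
    rintro _ ⟨φ, hφ, rfl⟩
    rcases Ax.mem_iff.mp hφ with rfl | hφ
    · simp
    · exact Or.inr (hφ.conj hg)
  refine le_antisymm ?_ (key g hg a)
  have h := key _ (inv_mem hg) (g a)
  rwa [show g⁻¹ (g a) = a from g.symm_apply_apply a] at h

theorem ax_smul {c : ZMod p} (hc : c ≠ 0) : Ax H (c • a) = Ax H a := by
  have key : ∀ (c : ZMod p) (a : V), c ≠ 0 → Ax H a ≤ Ax H (c • a) := fun c a hc φ hφ => by
    rcases Ax.mem_iff.mp hφ with rfl | hφ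
    exacts [zero_mem _, Or.inr (hφ.smul hc)]
  refine le_antisymm ?_ (key c a hc)
  have h := key c⁻¹ (c • a) (inv_ne_zero hc)
  rwa [inv_smul_smul₀ hc] at h

theorem finrank_eq_of_two_way [Finite V] (h : Mem H a φ) (h' : Mem H b ψ) (hφ : φ b ≠ 0) (hψ : ψ a ≠ 0) :
    finrank (ZMod p) (Ax H a) = finrank (ZMod p) (Ax H b) := by
  have h1 := h'
  set c : ZMod p := -(φ b * ψ a)⁻¹ with hc
  have hc0 : c ≠ 0 := neg_ne_zero.mpr (inv_ne_zero (mul_ne_zero hφ hψ))
  have hg := (h1.smul hc0).2.2.2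
  have e : tv a φ (tv (c • b) ψ a) = (ψ a * c) • b := by
    have hb0 : ψ (c • b) = 0 := by simp [h'.2.2.1]
    rw [tv_apply hb0, tv_apply h.2.2.1, map_add, h.2.2.1, zero_add, smul_smul, map_smul,
      smul_eq_mul, show ψ a * c * φ b = -1 by rw [hc]; field_simp]
    module
  rw [← finrank_ax_conj hg a, ← finrank_ax_conj h.2.2.2, e, ax_smul (mul_ne_zero hψ hc0)]

theorem finrank_ax_min [Finite V] (hH : Setup H) (hC : IsClass H C) (ha : Pt C a) {b : V} (hb : Pt C b)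
    (hmin : ∀ c, Pt C c → finrank (ZMod p) (Ax H b) ≤ finrank (ZMod p) (Ax H c)) :
    finrank (ZMod p) (Ax H a) = finrank (ZMod p) (Ax H b) := by
  haveI : Module.Finite (ZMod p) V := Module.Finite.of_finite
  let M : Set V := {c | Pt C c ∧ finrank (ZMod p) (Ax H c) = finrank (ZMod p) (Ax H b)}
  let W : Submodule (ZMod p) V := ⨅ c ∈ M, ⨅ φ ∈ Ax H c, LinearMap.ker φ
  have hWmem : ∀ x, x ∈ W ↔ ∀ c ∈ M, ∀ φ ∈ Ax H c, φ x = 0 := fun x => by simp [W]
  have hWinv : ∀ g ∈ H, ∀ x ∈ W, g x ∈ W := fun g hg => map_le_of_tv hH (fun d δ hd x hx => by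
    rw [hWmem] at hx ⊢
    intro c hc φ hφ
    by_cases hφ0 : φ = 0
    · simp [hφ0]
    have hcC := mem_class hH hC hc.1 (Ax.mem_of hφ hφ0)
    have hc' : c + δ c • d ∈ M := by
      refine ⟨⟨_, conj_mem hH hC hcC hd⟩, ?_⟩
      rw [← tv_apply hd.2.2.1, finrank_ax_conj hd.2.2.2]
      exact hc.2
    have h := hx _ hc' _ (Pt.mem_ax hC (conj_mem hH hC hcC hd))
    simp only [LinearMap.sub_apply, LinearMap.smul_apply, smul_eq_mul, hx c hc φ hφ, zero_sub, neg_eq_zero,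
      mul_eq_zero] at h
    rcases h with h | h <;> simp [h]) hg
  obtain ⟨β, hβ⟩ := hb
  have hbM : b ∈ M := ⟨⟨β, hβ⟩, rfl⟩
  -- every axis of the class is nonzero somewhere off `W`
  have htype : ∀ y ∈ C, ∀ z ∈ C, Adj y z → y.1 ∉ W → z.1 ∉ W := by
    intro y hy z hz hadj hyW hzW
    have hm := hC.mem y hy
    have hmove : ∀ u ∈ W, y.2 u = 0 := fun u hu => by
      by_contra hne
      have h3 := W.sub_mem (hWinv _ hm.2.2.2 u hu) hu
      rw [tv_apply hm.2.2.1, add_sub_cancel_left] at h3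
      exact hyW (by simpa [smul_smul, hne] using W.smul_mem (y.2 u)⁻¹ h3)
    have h0 := hmove _ hzW
    obtain ⟨u, hu, hne⟩ := not_mem_of_type hH hWinv
      (Mem.oneway (hC.mem z hz) hm (hadj.resolve_left (not_not_intro h0)) h0) hzW
    exact hne (hmove u hu)
  have hbW : b ∉ W := fun h => by
    obtain ⟨x, hx, hne⟩ := not_mem_of_type hH hWinv (hC.mem _ hβ) h
    exact hne ((hWmem x).mp hx b hbM β (Pt.mem_ax hC hβ))
  obtain ⟨α, hα⟩ := ha
  have haW : a ∉ W := by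
    have key : ∀ y, Relation.ReflTransGen (fun u v => u ∈ C ∧ v ∈ C ∧ Adj u v) (b, β) y → y.1 ∉ W := by
      intro y hy
      induction hy with
      | refl => exact hbW
      | tail _ hyz ih => exact htype _ hyz.1 _ hyz.2.1 hyz.2.2 ih
    exact key _ (hC.conn _ hβ _ hα)
  rw [hWmem] at haW
  push Not at haW
  obtain ⟨c, hc, γ, hγ, hγa⟩ := haW
  rw [← hc.2]
  by_cases hex : ∃ δ ∈ Ax H a, δ c ≠ 0
  · obtain ⟨δ, hδ, hδc⟩ := hex
    exact finrank_eq_of_two_way (Ax.mem_of_apply hδ hδc) (Ax.mem_of_apply hγ hγa) hδc hγa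
  · push Not at hex
    have hle : Ax H a ≤ Ax H c := fun δ hδ => by
      by_cases h0 : δ = 0
      · simp [h0]
      · exact Or.inr ((Ax.mem_of_apply hγ hγa).oneway (Ax.mem_of hδ h0) hγa (hex δ hδ))
    exact le_antisymm (Submodule.finrank_mono hle) (hc.2 ▸ hmin a ⟨α, hα⟩)

theorem finrank_ax_eq [Finite V] (hH : Setup H) (hC : IsClass H C) (ha : Pt C a) (hb : Pt C b) :
    finrank (ZMod p) (Ax H a) = finrank (ZMod p) (Ax H b) := by
  obtain ⟨c, hc, hmin⟩ : ∃ c, Pt C c ∧ ∀ e, Pt C e → finrank (ZMod p) (Ax H c) ≤ finrank (ZMod p) (Ax H e) := by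
    obtain ⟨c, hc, hm⟩ := (Set.toFinite {c | Pt C c}).exists_minimalFor (fun c => finrank (ZMod p) (Ax H c))
      _ ⟨a, ha⟩
    exact ⟨c, hc, fun e he => (le_total _ _).elim id fun h => hm he h⟩
  rw [finrank_ax_min hH hC ha hc hmin, finrank_ax_min hH hC hb hc hmin]

/-- Being a neighbour is symmetric. -/
theorem Nb.symm [Finite V] (hH : Setup H) (hC : IsClass H C) (ha : Pt C a) (hb : Pt C b) (h : Nb H a b) :
    Nb H b a := by
  haveI : Module.Finite (ZMod p) V := Module.Finite.of_finite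
  obtain ⟨φ, hφ, hφb⟩ := h
  by_contra hcon
  have hψ : ∀ ψ ∈ Ax H b, ψ a = 0 := fun ψ hψ => by_contra fun e => hcon ⟨ψ, hψ, e⟩
  have hle : Ax H b ≤ Ax H a := fun ψ hψb => by
    by_cases h0 : ψ = 0
    · simp [h0]
    · exact Or.inr ((Ax.mem_of_apply hφ hφb).oneway (Ax.mem_of hψb h0) hφb (hψ ψ hψb))
  have he := Submodule.eq_of_le_of_finrank_eq hle (finrank_ax_eq hH hC hb ha)
  exact hφb (Ax.apply_self (he ▸ hφ))

theorem exists_scaled (h : φ ∈ Ax H a) (hne : φ b ≠ 0) {c : ZMod p} (hc : c ≠ 0) :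
    ∃ φ', Mem H a φ' ∧ φ' b = c := by
  refine ⟨(c * (φ b)⁻¹) • φ, (Ax.mem_of_apply h hne).smul_axis (mul_ne_zero hc (inv_ne_zero hne)), ?_⟩
  simp [hne]

/-- Lines through two neighbours consist of centres. -/
theorem line (hH : Setup H) (hC : IsClass H C) (hb : Pt C b) (h : Nb H a b)
    (c : ZMod p) : Pt C (b + c • a) := by
  obtain ⟨φ, hφ, hφb⟩ := h
  obtain ⟨ψ, hψ⟩ := hb
  by_cases hc : c = 0
  · exact ⟨ψ, by simpa [hc] using hψ⟩
  obtain ⟨φ', hφ', hv⟩ := exists_scaled hφ hφb hc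
  exact ⟨_, hv ▸ conj_mem hH hC hψ hφ'⟩

theorem exists_two_avoid (hH : Setup H) {x y z w : ZMod p} (hy : y ≠ 0 ∨ x ≠ 0) (hw : w ≠ 0 ∨ z ≠ 0) :
    ∃ t : ZMod p, x + t * y ≠ 0 ∧ z + t * w ≠ 0 := by
  by_contra hcon
  push Not at hcon
  have h2 : (2 : ZMod p) ≠ 0 := Ring.two_ne_zero (by rw [ringChar.eq (ZMod p) p]; exact hH.odd)
  have e0 := hcon 0
  have e1 := hcon 1
  have e2 := hcon (-1)
  simp only [zero_mul, add_zero, one_mul, neg_mul] at e0 e1 e2
  by_cases hx : x = 0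
  · have hy' : y ≠ 0 := hy.resolve_right (not_not_intro hx)
    have f1 := e1 (by simpa [hx] using hy')
    have f2 := e2 (by simpa [hx] using hy')
    have hz : z = 0 := (mul_eq_zero.mp (show (2 : ZMod p) * z = 0 by linear_combination f1 + f2)).resolve_left h2
    exact hw.elim (fun h => h (by simpa [hz] using f1)) fun h => h hz
  · have hz := e0 hx
    have hw' : w ≠ 0 := hw.resolve_right (not_not_intro hz)
    have f1 : x + y = 0 := by_contra fun h => hw' (by simpa [hz] using e1 h)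
    have f2 : x + -y = 0 := by_contra fun h => hw' (by simpa [hz] using e2 h)
    exact hx ((mul_eq_zero.mp (show (2 : ZMod p) * x = 0 by linear_combination f1 + f2)).resolve_left h2)

/-- Two centres have a common neighbour. -/
theorem exists_common [Finite V] (hH : Setup H) (hC : IsClass H C) (ha : Pt C a) (hb : Pt C b) :
    ∃ c, Pt C c ∧ Nb H a c ∧ Nb H b c := by
  obtain ⟨α, hα⟩ := ha
  obtain ⟨β, hβ⟩ := hb
  have key : ∀ y, Relation.ReflTransGen (fun u v => u ∈ C ∧ v ∈ C ∧ Adj u v) (a, α) y →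
      ∃ c, Pt C c ∧ Nb H a c ∧ Nb H y.1 c := by
    intro y hy
    induction hy with
    | refl =>
      obtain ⟨e, ε, he, hadj⟩ := exists_adj hH (hC.mem _ hα)
      have heC := hC.adj _ hα (e, ε) he hadj
      have hn : Nb H a e := hadj.elim (fun h => ⟨α, Pt.mem_ax hC hα, h⟩)
        fun h => Nb.symm hH hC ⟨ε, heC⟩ ⟨α, hα⟩ ⟨ε, Pt.mem_ax hC heC, h⟩
      exact ⟨e, ⟨ε, heC⟩, hn, hn⟩
    | @tail y z _ hyz ih =>
      obtain ⟨c, hc, hac, hyc⟩ := ih
      obtain ⟨hy', hz', hadj⟩ := hyz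
      have hyP : Pt C y.1 := ⟨y.2, hy'⟩
      have hzP : Pt C z.1 := ⟨z.2, hz'⟩
      obtain ⟨ζ, hζ, hζy⟩ : Nb H z.1 y.1 := hadj.elim
        (fun h => Nb.symm hH hC hyP hzP ⟨y.2, Pt.mem_ax hC hy', h⟩) fun h => ⟨z.2, Pt.mem_ax hC hz', h⟩
      obtain ⟨α', hα', hαc⟩ := hac
      obtain ⟨t, h1, h2⟩ := exists_two_avoid hH (x := α' c) (y := α' y.1) (z := ζ c) (w := ζ y.1)
        (Or.inr hαc) (Or.inl hζy)
      refine ⟨c + t • y.1, line hH hC hc hyc t, ⟨α', hα', ?_⟩, ζ, hζ, ?_⟩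
      · simpa using h1
      · simpa using h2
  exact key _ (hC.conn _ hα _ hβ)

end Cfsg.Agent.McLaughlin
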