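import Cfsg.Agent.Lib.McLaughlin.Span
import Cfsg.Agent.Lib.ClassicalSimple.Symp
import Cfsg.Agent.Lib.GL.Basic

/-!
# A class induces the special linear or a symplectic group on the span of its centres
-/

set_option autoImplicit false
set_option linter.style.haveILetI false

namespace Cfsg.Agent.McLaughlin

open Module

section Generation

variable {p : ℕ} [Fact p.Prime] {W : Type*} [AddCommGroup W] [Module (ZMod p) W] [Finite W]

/-- The special linear group is generated by transvections. -/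
theorem det_one_le (G : Subgroup (W ≃ₗ[ZMod p] W))
    (h : ∀ (a : W) (f : Dual (ZMod p) W), f a = 0 → a ≠ 0 → tv a f ∈ G) (g : W ≃ₗ[ZMod p] W)
    (hg : LinearMap.det (g : W →ₗ[ZMod p] W) = 1) : g ∈ G := by
  classical
  haveI : Module.Finite (ZMod p) W := Module.Finite.of_finite
  let b := Module.finBasis (ZMod p) W
  let Φ : Matrix.SpecialLinearGroup (Fin (finrank (ZMod p) W)) (ZMod p) →* (W ≃ₗ[ZMod p] W) :=
    { toFun := fun M => (b.equivFun.trans (Matrix.SpecialLinearGroup.toLin' M)).trans b.equivFun.symm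
      map_one' := LinearEquiv.ext fun x => by simp
      map_mul' := fun M N => LinearEquiv.ext fun x => by
        show b.equivFun.symm (Matrix.SpecialLinearGroup.toLin' (M * N) (b.equivFun x)) =
          b.equivFun.symm (Matrix.SpecialLinearGroup.toLin' M
            (b.equivFun (b.equivFun.symm (Matrix.SpecialLinearGroup.toLin' N (b.equivFun x)))))
        rw [LinearEquiv.apply_symm_apply, map_mul]
        rfl }
  have htop : G.comap Φ = ⊤ := GL.SL_eq_top_of_transvection_mem fun i j hij c => by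
    by_cases hc : c = 0
    · simp [hc, one_mem]
    have h0 : (b.coord j) (c • b i) = 0 := by simp [hij]
    rw [Subgroup.mem_comap]
    convert h (c • b i) (b.coord j) h0 (smul_ne_zero hc (b.ne_zero i)) using 1
    refine LinearEquiv.ext fun x => b.equivFun.injective ?_
    rw [tv_apply h0]
    show b.equivFun (b.equivFun.symm (Matrix.SpecialLinearGroup.toLin'
      (Matrix.SpecialLinearGroup.transvection hij c) (b.equivFun x))) = _
    rw [LinearEquiv.apply_symm_apply]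
    ext k
    show ((Matrix.transvection i j c).mulVec (b.equivFun x)) k = _
    simp [Matrix.transvection, Matrix.add_mulVec, Matrix.single_mulVec, Finsupp.single_apply, eq_comm,
      mul_comm]
    by_cases hik : i = k <;> simp [hik, eq_comm]
  have hdet : (LinearMap.toMatrix b b (g : W →ₗ[ZMod p] W)).det = 1 := by rw [LinearMap.det_toMatrix, hg]
  let M : Matrix.SpecialLinearGroup (Fin (finrank (ZMod p) W)) (ZMod p) := ⟨_, hdet⟩
  have hM : M ∈ G.comap Φ := htop ▸ Subgroup.mem_top _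
  convert Subgroup.mem_comap.mp hM using 1
  refine LinearEquiv.ext fun x => b.equivFun.injective ?_
  show _ = b.equivFun (b.equivFun.symm ((LinearMap.toMatrix b b (g : W →ₗ[ZMod p] W)).mulVec (b.equivFun x)))
  rw [LinearEquiv.apply_symm_apply]
  exact (LinearMap.toMatrix_mulVec_repr b b (g : W →ₗ[ZMod p] W) x).symm

end Generation

variable {p : ℕ} [Fact p.Prime] {V : Type*} [AddCommGroup V] [Module (ZMod p) V]
variable {H : Subgroup (V ≃ₗ[ZMod p] V)} {C : Set (V × Dual (ZMod p) V)}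

/-- The subgroup generated by the transvections of a class. -/
def grp (C : Set (V × Dual (ZMod p) V)) : Subgroup (V ≃ₗ[ZMod p] V) :=
  Subgroup.closure ((fun x => tv x.1 x.2) '' C)

theorem grp_le (hC : IsClass H C) : grp C ≤ H :=
  (Subgroup.closure_le _).mpr (by rintro _ ⟨x, hx, rfl⟩; exact (hC.mem x hx).2.2.2)

/-- The restriction to the span of the centres. -/
noncomputable def resW (hH : Setup H) (hC : IsClass H C) : grp C →* (spanS C ≃ₗ[ZMod p] spanS C) where
  toFun g :=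
    { toFun := fun x => ⟨(g : V ≃ₗ[ZMod p] V) x, spanS_invariant hH hC _ (grp_le hC g.2) x x.2⟩
      invFun := fun x => ⟨(g : V ≃ₗ[ZMod p] V).symm x,
        spanS_invariant hH hC _ (inv_mem (grp_le hC g.2)) x x.2⟩
      map_add' := fun _ _ => Subtype.ext (map_add _ _ _)
      map_smul' := fun _ _ => Subtype.ext (map_smul _ _ _)
      left_inv := fun _ => Subtype.ext ((g : V ≃ₗ[ZMod p] V).symm_apply_apply _)
      right_inv := fun _ => Subtype.ext ((g : V ≃ₗ[ZMod p] V).apply_symm_apply _) }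
  map_one' := rfl
  map_mul' _ _ := rfl

theorem resW_apply (hH : Setup H) (hC : IsClass H C) (g : grp C) (x : spanS C) :
    ((resW hH hC g x : spanS C) : V) = (g : V ≃ₗ[ZMod p] V) x := rfl

variable [Finite V] {a b c z : V} {φ ψ : Dual (ZMod p) V}

theorem tv_mem_range (hH : Setup H) (hC : IsClass H C) {w : spanS C} {f : Dual (ZMod p) (spanS C)}
    (hf : f w = 0) (hw : w ≠ 0) (h : Mem H (w : V) φ) (hφ : ∀ x : spanS C, φ x = f x) :
    tv w f ∈ (resW hH hC).range := by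
  have hPt := pt_of_mem_spanS hH hC w.2 fun e => hw (Subtype.ext e)
  refine ⟨⟨tv (w : V) φ, Subgroup.subset_closure ⟨(_, φ), mem_class hH hC hPt h, rfl⟩⟩,
    LinearEquiv.ext fun x => Subtype.ext ?_⟩
  rw [resW_apply, tv_apply hf]
  show tv (w : V) φ x = _
  rw [tv_apply h.2.2.1, hφ]
  rfl

omit [Finite V] in
theorem finrank_ax_le_one [Finite V] (a c : V)
    (h : ∀ χ ∈ Ax H a, χ c = 0 → χ = 0) : finrank (ZMod p) (Ax H a) ≤ 1 := by
  haveI : Module.Finite (ZMod p) V := Module.Finite.of_finite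
  have hinj : Function.Injective ((Dual.eval (ZMod p) V c).domRestrict (Ax H a)) := by
    exact (injective_iff_map_eq_zero _).mpr fun χ hχ => Subtype.ext (h χ χ.2 hχ)
  have := LinearMap.finrank_le_finrank_of_injective hinj
  rwa [Module.finrank_self] at this

/-- A centre in the common kernel of the axes at `a`, for axis spaces of dimension at least two. -/
theorem ax_le_of_perp (hH : Setup H) (hC : IsClass H C) (h2 : 2 ≤ finrank (ZMod p) (Ax H a)) (ha : Pt C a)
    (hz : Pt C z) (hp : ∀ α ∈ Ax H a, α z = 0) : Ax H a ≤ Ax H z := by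
  obtain ⟨c, hc, ⟨α, hα, hαc⟩, ⟨ζ, hζ, hζc⟩⟩ := exists_common hH hC ha hz
  have key : ∀ e, Pt C e → Nb H a e → Nb H z e → ∀ χ ∈ Ax H a, χ e = 0 → χ ∈ Ax H z := by
    intro e he hae hze χ hχ hχe
    by_cases h0 : χ = 0
    · simp [h0]
    obtain ⟨ε, hε, hεa⟩ := Nb.symm hH hC ha he hae
    have h1 := (Ax.mem_of_apply hε hεa).oneway (Ax.mem_of hχ h0) hεa hχe
    obtain ⟨ζ', hζ', hζ'e⟩ := hze
    exact Or.inr ((Ax.mem_of_apply hζ' hζ'e).oneway h1 hζ'e (hp χ hχ))
  by_contra hle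
  obtain ⟨χ₀, hχ₀, hχ₀c, hne⟩ : ∃ χ ∈ Ax H a, χ c = 0 ∧ χ ≠ 0 := by
    by_contra hcon
    push Not at hcon
    have := finrank_ax_le_one a c hcon
    omega
  have hkill : ∀ e, Pt C e → Nb H a e → Nb H z e → ∀ χ ∈ Ax H a ⊓ Ax H z, χ e = 0 := by
    intro e he hae hze χ hχ
    by_contra hχe
    refine hle fun α' hα' => ?_
    have h1 := key e he hae hze (α' - (α' e * (χ e)⁻¹) • χ) (sub_mem hα' (Submodule.smul_mem _ _ hχ.1))
      (by simp [hχe])
    simpa using add_mem h1 (Submodule.smul_mem _ (α' e * (χ e)⁻¹) hχ.2)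
  have hχX : χ₀ ∈ Ax H a ⊓ Ax H z :=
    ⟨hχ₀, key c hc ⟨α, hα, hαc⟩ ⟨ζ, hζ, hζc⟩ χ₀ hχ₀ hχ₀c⟩
  obtain ⟨e, he, hχe⟩ := exists_apply_ne_zero hH hC ha hχ₀ hne
  obtain ⟨t, h1, h3⟩ := exists_two_avoid hH (x := α e) (y := α c) (z := ζ e) (w := ζ c) (Or.inl hαc) (Or.inl hζc)
  have hα1 : α (e + t • c) ≠ 0 := by simpa using h1
  have hPe : Pt C (e + t • c) := pt_of_mem_spanS hH hC
    (add_mem (mem_spanS he) (Submodule.smul_mem _ _ (mem_spanS hc))) fun h0 => hα1 (by rw [h0, map_zero])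
  have := hkill _ hPe ⟨α, hα, hα1⟩ ⟨ζ, hζ, by simpa using h3⟩ χ₀ hχX
  rw [map_add, map_smul, hχ₀c, smul_zero, add_zero] at this
  exact hχe this

theorem perp_mem_span (hH : Setup H) (hC : IsClass H C) (h2 : 2 ≤ finrank (ZMod p) (Ax H a)) (ha : Pt C a)
    (hz : z ∈ spanS C) (hp : ∀ α ∈ Ax H a, α z = 0) : z ∈ Submodule.span (ZMod p) {a} := by
  obtain ⟨c, hc, hac, -⟩ := exists_common hH hC ha ha
  obtain ⟨γ, hγ, hγa⟩ := Nb.symm hH hC ha hc hac
  obtain ⟨α, hα, hαc⟩ := hac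
  obtain ⟨k, hk⟩ : ∃ k, k = γ z * (γ a)⁻¹ := ⟨_, rfl⟩
  by_contra hcon
  have hne : z - k • a ≠ 0 := fun h => hcon (Submodule.mem_span_singleton.mpr ⟨k, (sub_eq_zero.mp h).symm⟩)
  have hz' := pt_of_mem_spanS hH hC (sub_mem hz (Submodule.smul_mem _ k (mem_spanS ha))) hne
  have hp' : ∀ α ∈ Ax H a, α (z - k • a) = 0 := fun α h => by simp [hp α h, Ax.apply_self h]
  obtain ⟨γ', hγ', hne'⟩ := Nb.symm hH hC hz' hc ⟨α, ax_le_of_perp hH hC h2 ha hz' hp' hα, hαc⟩
  obtain ⟨χ, hχ⟩ : ∃ χ, χ = γ' - (γ' a * (γ a)⁻¹) • γ := ⟨_, rfl⟩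
  have hγz : γ (z - k • a) = 0 := by simp [hk, hγa]
  have hχz : χ (z - k • a) ≠ 0 := by
    rw [hχ, LinearMap.sub_apply, LinearMap.smul_apply, hγz, smul_zero, sub_zero]; exact hne'
  have hχc : χ ∈ Ax H c := hχ ▸ sub_mem hγ' (Submodule.smul_mem _ _ hγ)
  have h1 := (Ax.mem_of_apply hα hαc).oneway (Ax.mem_of_apply hχc hχz) hαc (by simp [hχ, hγa])
  exact hχz (hp' χ (Or.inr h1))

theorem range_eq_det_one (hH : Setup H) (hC : IsClass H C) (h2 : ∀ a, Pt C a → 2 ≤ finrank (ZMod p) (Ax H a))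
    (f : spanS C ≃ₗ[ZMod p] spanS C) :
    f ∈ (resW hH hC).range ↔ LinearMap.det (f : spanS C →ₗ[ZMod p] spanS C) = 1 := by
  haveI : Module.Finite (ZMod p) V := Module.Finite.of_finite
  constructor
  · rintro ⟨⟨g, hg⟩, rfl⟩
    induction hg using Subgroup.closure_induction with
    | mem t ht =>
      obtain ⟨⟨u, φ⟩, hu, rfl⟩ := ht
      have hm := hC.mem _ hu
      have h0 : (φ.comp (spanS C).subtype) ⟨u, mem_spanS ⟨φ, hu⟩⟩ = 0 := hm.2.2.1
      show LinearMap.det ((resW hH hC ⟨tv u φ, Subgroup.subset_closure ⟨(u, φ), hu, rfl⟩⟩ :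
        spanS C ≃ₗ[ZMod p] spanS C) : spanS C →ₗ[ZMod p] spanS C) = 1
      have heq : resW hH hC ⟨tv u φ, Subgroup.subset_closure ⟨(u, φ), hu, rfl⟩⟩ =
          LinearEquiv.transvection h0 := LinearEquiv.ext fun x => Subtype.ext (by
        rw [resW_apply]; exact tv_apply hm.2.2.1 _)
      erw [heq]
      rw [LinearEquiv.transvection.coe_toLinearMap, LinearMap.transvection.det, h0, add_zero]
    | one =>
      rw [show (⟨1, _⟩ : grp C) = 1 from rfl, map_one]
      exact LinearMap.det_id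
    | mul u v hu hv ihu ihv =>
      rw [show (⟨u * v, _⟩ : grp C) = ⟨u, hu⟩ * ⟨v, hv⟩ from rfl, map_mul]
      show LinearMap.det ((resW hH hC ⟨u, hu⟩ : spanS C →ₗ[ZMod p] spanS C) *
        (resW hH hC ⟨v, hv⟩ : spanS C →ₗ[ZMod p] spanS C)) = 1
      rw [map_mul, ihu, ihv, one_mul]
    | inv u hu ihu =>
      have h := LinearEquiv.det_coe_symm (resW hH hC ⟨u, hu⟩)
      rw [show (⟨u⁻¹, _⟩ : grp C) = (⟨u, hu⟩)⁻¹ from rfl, map_inv]
      exact h.trans (by rw [ihu, inv_one])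
  · refine det_one_le _ (fun w f hf hw => ?_) f
    by_cases hf0 : f = 0
    · rw [tv_eq_one (Or.inr hf0)]; exact one_mem _
    have hPt := pt_of_mem_spanS hH hC w.2 fun e => hw (Subtype.ext e)
    let A' : Submodule (ZMod p) (Dual (ZMod p) (spanS C)) := (Ax H (w : V)).map (spanS C).subtype.dualMap
    have hA : A'.dualCoannihilator ≤ Submodule.span (ZMod p) {w} := fun x hx => by
      rw [Submodule.mem_dualCoannihilator] at hx
      have h := perp_mem_span hH hC (h2 _ hPt) hPt x.2 fun α hα => hx _ ⟨α, hα, rfl⟩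
      obtain ⟨k, hk⟩ := Submodule.mem_span_singleton.mp h
      exact Submodule.mem_span_singleton.mpr ⟨k, Subtype.ext hk⟩
    have hfA : f ∈ A' := by
      rw [← Subspace.dualCoannihilator_dualAnnihilator_eq (W := A'), Submodule.mem_dualAnnihilator]
      intro x hx
      obtain ⟨k, rfl⟩ := Submodule.mem_span_singleton.mp (hA hx)
      simp [hf]
    obtain ⟨φ, hφ, rfl⟩ := hfA
    exact tv_mem_range hH hC hf hw (Ax.mem_of hφ fun e => hf0 (by simp [e])) fun x => rfl

theorem exists_form (hH : Setup H) (hC : IsClass H C) (h1 : ∀ a, Pt C a → finrank (ZMod p) (Ax H a) ≤ 1) :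
    ∃ B : LinearMap.BilinForm (ZMod p) (spanS C), B.IsAlt ∧ B.Nondegenerate ∧
      ∀ (v : spanS C), v ≠ 0 → ∃ φ, Mem H (v : V) φ ∧ (∀ x : spanS C, φ x = B v x) ∧
        ∀ ψ ∈ Ax H (v : V), ∃ k : ZMod p, ψ = k • φ := by
  classical
  haveI : Module.Finite (ZMod p) V := Module.Finite.of_finite
  have hline : ∀ (e : V) (φ : Dual (ZMod p) V), Pt C e → Mem H e φ → ∀ ψ ∈ Ax H e, ∃ k : ZMod p, ψ = k • φ := by
    intro e φ he hφ ψ hψ
    have hle : Submodule.span (ZMod p) {φ} ≤ Ax H e :=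
      (Submodule.span_singleton_le_iff_mem _ _).mpr (Or.inr hφ)
    have heq := Submodule.eq_of_le_of_finrank_le hle (by rw [finrank_span_singleton hφ.2.1]; exact h1 e he)
    rw [← heq, Submodule.mem_span_singleton] at hψ
    exact hψ.imp fun k h => h.symm
  have hperp : ∀ (e e' : V) (φ : Dual (ZMod p) V), Pt C e → Pt C e' → Mem H e φ → φ e' = 0 →
      ∀ ψ ∈ Ax H e', ψ e = 0 := by
    intro e e' φ he he' hφ h0 ψ hψ
    by_contra hne
    obtain ⟨χ, hχ, hχe⟩ := Nb.symm hH hC he' he ⟨ψ, hψ, hne⟩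
    obtain ⟨k, rfl⟩ := hline e φ he hφ χ hχ
    exact hχe (by simp [h0])
  obtain ⟨⟨a, α⟩, haα⟩ := hC.nonempty
  have ha : Pt C a := ⟨α, haα⟩
  have hαm : Mem H a α := hC.mem _ haα
  -- the normalised axes at the neighbours of `a`
  let S : Set (spanS C) := {e | α e ≠ 0}
  have hS : ∀ e : S, Pt C ((e : spanS C) : V) := fun e =>
    pt_of_mem_spanS hH hC e.1.2 fun h => e.2 (by rw [h, map_zero])
  have hex : ∀ e : S, ∃ β, Mem H ((e : spanS C) : V) β ∧ β a = -α e := fun e => by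
    obtain ⟨β, hβ, hβa⟩ := Nb.symm hH hC ha (hS e) ⟨α, Or.inr hαm, e.2⟩
    exact exists_scaled hβ hβa (neg_ne_zero.mpr e.2)
  choose β hβ hβa using hex
  have hskew : ∀ e e' : S, β e (e' : spanS C) = -(β e' (e : spanS C)) := by
    intro e e'
    by_cases h0 : β e (e' : spanS C) = 0
    · rw [h0, hperp _ _ _ (hS e) (hS e') (hβ e) h0 _ (Or.inr (hβ e')), neg_zero]
    obtain ⟨μ, hμ⟩ : ∃ μ, μ = -α e' * (β e (e' : spanS C))⁻¹ := ⟨_, rfl⟩
    have hμ0 : μ ≠ 0 := hμ ▸ mul_ne_zero (neg_ne_zero.mpr e'.2) (inv_ne_zero h0)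
    have hs : -μ * (α e)⁻¹ ≠ 0 := mul_ne_zero (neg_ne_zero.mpr hμ0) (inv_ne_zero e.2)
    have h := conj_mem hH hC haα ((hβ e).smul_axis hs)
    have e1 : (α - α (e : spanS C) • (-μ * (α e)⁻¹) • β e) ((e' : spanS C) : V) = 0 := by
      simp only [LinearMap.sub_apply, LinearMap.smul_apply, smul_eq_mul]
      have hee : α (e : spanS C) ≠ 0 := e.2
      field_simp
      rw [hμ]
      field_simp
      ring
    have h2 := hperp _ _ _ ⟨_, h⟩ (hS e') (hC.mem _ h) e1 _ (Or.inr (hβ e'))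
    simp only [LinearMap.smul_apply, smul_eq_mul, map_add, map_smul, hβa] at h2
    have hee : α (e : spanS C) ≠ 0 := e.2
    rw [hμ] at h2
    field_simp at h2
    have hee' : α (e' : spanS C) ≠ 0 := e'.2
    apply mul_left_cancel₀ hee'
    linear_combination -h2
  -- the form
  obtain ⟨c₀, hc₀, ⟨α', hα', hα'c⟩, -⟩ := exists_common hH hC ha ha
  obtain ⟨k₀, rfl⟩ := hline a α ha hαm α' hα'
  have hc₀α : α c₀ ≠ 0 := fun h => hα'c (by simp [h])
  have hspan : (⊤ : Submodule (ZMod p) (spanS C)) ≤ Submodule.span (ZMod p) S := by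
    intro x _
    let c₁ : spanS C := ⟨c₀, mem_spanS hc₀⟩
    have hcS : c₁ ∈ Submodule.span (ZMod p) S := Submodule.subset_span hc₀α
    by_cases hx : α x = 0
    · have h : x + c₁ ∈ S := by
        show α ((x : V) + c₀) ≠ 0
        rwa [map_add, hx, zero_add]
      simpa using sub_mem (Submodule.subset_span (R := ZMod p) h) hcS
    · exact Submodule.subset_span hx
  let bs := Module.Basis.ofSpan hspan
  have hbs : ∀ i, bs i ∈ S := fun i => Module.Basis.ofSpan_subset hspan ⟨i, rfl⟩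
  let B : LinearMap.BilinForm (ZMod p) (spanS C) :=
    bs.constr (ZMod p) fun i => (β ⟨bs i, hbs i⟩).comp (spanS C).subtype
  have hBi : ∀ i x, B (bs i) x = β ⟨bs i, hbs i⟩ x := fun i x => by simp [B]
  have hflip : ∀ (j : _) (x : spanS C), B x (bs j) = -β ⟨bs j, hbs j⟩ x := by
    intro j
    have : B.flip (bs j) = -(β ⟨bs j, hbs j⟩).comp (spanS C).subtype := bs.ext fun i => by
      show B (bs i) (bs j) = -β ⟨bs j, hbs j⟩ (bs i)
      rw [hBi]; exact hskew ⟨bs i, hbs i⟩ ⟨bs j, hbs j⟩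
    exact fun x => LinearMap.congr_fun this x
  have hnb : ∀ (e : S) (x : spanS C), B (e : spanS C) x = β e x := by
    intro e
    have : B (e : spanS C) = (β e).comp (spanS C).subtype := bs.ext fun j => by
      show _ = β e (bs j)
      rw [hflip, hskew ⟨bs j, hbs j⟩ e, neg_neg]
    exact fun x => LinearMap.congr_fun this x
  have hflip2 : B.flip = -B := bs.ext fun i => LinearMap.ext fun x => by
    show B x (bs i) = -B (bs i) x
    rw [hflip, hBi]
  have halt : B.IsAlt := fun x => by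
    have h : B x x = -B x x := LinearMap.congr_fun (LinearMap.congr_fun hflip2 x) x
    have h2 : (2 : ZMod p) ≠ 0 := Ring.two_ne_zero (by rw [ringChar.eq (ZMod p) p]; exact hH.odd)
    exact (mul_eq_zero.mp (show (2 : ZMod p) * B x x = 0 by linear_combination h)).resolve_left h2
  -- every axis is given by the form
  have hrep : ∀ v : spanS C, v ≠ 0 → ∃ φ, Mem H (v : V) φ ∧ ∀ x : spanS C, φ x = B v x := by
    intro v hv
    by_cases hv' : α v = 0
    swap
    · exact ⟨β ⟨v, hv'⟩, hβ ⟨v, hv'⟩, fun x => (hnb ⟨v, hv'⟩ x).symm⟩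
    have hvP := pt_of_mem_spanS hH hC v.2 fun h => hv (Subtype.ext h)
    obtain ⟨c, hc, ⟨α'', hα'', hα''c⟩, ⟨ε, hε, hεc⟩⟩ := exists_common hH hC ha hvP
    obtain ⟨k, rfl⟩ := hline a α ha hαm α'' hα''
    have hcα : α c ≠ 0 := fun h => hα''c (by simp [h])
    let c₁ : S := ⟨⟨c, mem_spanS hc⟩, hcα⟩
    have hεm := Ax.mem_of_apply hε hεc
    obtain ⟨s, hs, hsc⟩ : ∃ s : ZMod p, s ≠ 0 ∧ s * ε c = 1 := ⟨(ε c)⁻¹, inv_ne_zero hεc, inv_mul_cancel₀ hεc⟩
    have h := conj_mem hH hC (mem_class hH hC hc (hβ c₁)) (hεm.smul_axis hs)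
    simp only [LinearMap.smul_apply, smul_eq_mul, hsc, one_smul] at h
    let f₁ : S := ⟨(c₁ : spanS C) + v, by
      show α (c + v) ≠ 0
      rwa [map_add, hv', add_zero]⟩
    obtain ⟨κ, hκ⟩ := hline _ _ (hS f₁) (hβ f₁) _ (Or.inr (hC.mem _ h))
    have hεa : ε a = 0 := hperp _ _ _ ha hvP hαm hv' ε hε
    have hκ1 : κ = 1 := by
      have e := LinearMap.congr_fun hκ a
      simp only [LinearMap.sub_apply, LinearMap.smul_apply, smul_eq_mul, hεa, mul_zero, sub_zero, hβa] at e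
      change -α c = κ * -α (c + v) at e
      rw [map_add, hv', add_zero] at e
      exact (mul_right_cancel₀ (neg_ne_zero.mpr hcα) (e.symm.trans (one_mul _).symm))
    rw [hκ1, one_smul] at hκ
    have hk : β c₁ v * s ≠ 0 := by
      refine mul_ne_zero (fun h0 => hεc ?_) hs
      exact hperp _ _ _ hc hvP (hβ c₁) h0 ε hε
    refine ⟨(-(β c₁ v * s)) • ε, hεm.smul_axis (neg_ne_zero.mpr hk), fun x => ?_⟩
    have e : B v x = β f₁ x - β c₁ x := by
      rw [← hnb f₁, ← hnb c₁, ← LinearMap.sub_apply, ← map_sub]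
      show B v x = B ((c₁ : spanS C) + v - (c₁ : spanS C)) x
      rw [add_sub_cancel_left]
    rw [e, ← hκ]
    simp only [LinearMap.sub_apply, LinearMap.smul_apply, smul_eq_mul]
    ring
  refine ⟨B, halt, ?_, fun v hv => ?_⟩
  · have hsep : ∀ x : spanS C, (∀ y, B x y = 0) → x = 0 := fun x hx => by
      by_contra hne
      obtain ⟨φ, hφ, hφB⟩ := hrep x hne
      have hP := pt_of_mem_spanS hH hC x.2 fun h => hne (Subtype.ext h)
      obtain ⟨e, he, hφe⟩ := exists_apply_ne_zero hH hC hP (Or.inr hφ) hφ.2.1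
      exact hφe ((hφB ⟨e, mem_spanS he⟩).trans (hx _))
    exact ⟨hsep, fun y hy => hsep y fun x => by rw [← LinearMap.IsAlt.neg halt x y, hy x, neg_zero]⟩
  · obtain ⟨φ, hφ, hφB⟩ := hrep v hv
    exact ⟨φ, hφ, hφB, hline _ φ (pt_of_mem_spanS hH hC v.2 fun h => hv (Subtype.ext h)) hφ⟩

theorem range_eq_isom (hH : Setup H) (hC : IsClass H C) (B : LinearMap.BilinForm (ZMod p) (spanS C))
    (hA : B.IsAlt) (hN : B.Nondegenerate)
    (hB : ∀ (v : spanS C), v ≠ 0 → ∃ φ, Mem H (v : V) φ ∧ (∀ x : spanS C, φ x = B v x) ∧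
      ∀ ψ ∈ Ax H (v : V), ∃ k : ZMod p, ψ = k • φ) (f : spanS C ≃ₗ[ZMod p] spanS C) :
    f ∈ (resW hH hC).range ↔ ∀ x y, B (f x) (f y) = B x y := by
  haveI : Module.Finite (ZMod p) V := Module.Finite.of_finite
  have hle : (resW hH hC).range ≤ ClassicalSimple.SpB B := by
    rw [MonoidHom.range_eq_map]
    rintro _ ⟨⟨g, hg⟩, -, rfl⟩
    induction hg using Subgroup.closure_induction with
    | mem t ht =>
      obtain ⟨⟨u, ψ⟩, hu, rfl⟩ := ht
      have hm := hC.mem _ hu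
      obtain ⟨φ, hφ, hφB, hl⟩ := hB ⟨u, mem_spanS ⟨ψ, hu⟩⟩ fun e => hm.1 (congrArg Subtype.val e)
      obtain ⟨k, rfl⟩ := hl ψ (Or.inr hm)
      intro x y
      have hx : ∀ x : spanS C, resW hH hC ⟨tv u (k • φ), Subgroup.subset_closure ⟨(u, k • φ), hu, rfl⟩⟩ x =
          x + (k * B ⟨u, mem_spanS ⟨k • φ, hu⟩⟩ x) • ⟨u, mem_spanS ⟨k • φ, hu⟩⟩ := fun x => Subtype.ext (by
        rw [resW_apply]
        show tv u (k • φ) (x : V) = _
        rw [tv_apply hm.2.2.1, LinearMap.smul_apply, hφB]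
        rfl)
      rw [hx, hx]
      simp only [map_add, map_smul, LinearMap.add_apply, LinearMap.smul_apply, smul_eq_mul, hA.self_eq_zero]
      rw [← LinearMap.IsAlt.neg hA ⟨u, mem_spanS ⟨k • φ, hu⟩⟩ x]
      ring
    | one => exact fun x y => rfl
    | mul u v hu hv ihu ihv =>
      rw [show (⟨u * v, _⟩ : grp C) = ⟨u, hu⟩ * ⟨v, hv⟩ from rfl, map_mul]
      exact mul_mem ihu ihv
    | inv u hu ihu =>
      rw [show (⟨u⁻¹, _⟩ : grp C) = (⟨u, hu⟩)⁻¹ from rfl, map_inv]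
      exact inv_mem ihu
  refine ⟨fun h => hle h, fun h => ?_⟩
  have htop : ((resW hH hC).range).comap (ClassicalSimple.SpB B).subtype = ⊤ := by
    have hA' : LinearMap.IsAlt B := hA
    rw [eq_top_iff, ← ClassicalSimple.transvGroup_eq_top hA' hN]
    refine (Subgroup.closure_le _).mpr ?_
    rintro _ ⟨⟨v, c⟩, rfl⟩
    refine Subgroup.mem_comap.mpr ?_
    show ((ClassicalSimple.spTransv hA' v c : ClassicalSimple.SpB B) : spanS C ≃ₗ[ZMod p] spanS C) ∈
      (resW hH hC).range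
    by_cases hvc : v = 0 ∨ c = 0
    · convert one_mem (resW hH hC).range
      refine LinearEquiv.ext fun x => ?_
      rw [← ClassicalSimple.smul_eq_apply, ClassicalSimple.spTransv_smul]
      rcases hvc with rfl | rfl <;> simp
    rw [not_or] at hvc
    obtain ⟨φ, hφ, hφB, -⟩ := hB v hvc.1
    have hv0 : ((-c) • B v) v = 0 := by simp [hA.self_eq_zero v]
    convert tv_mem_range hH hC (f := (-c) • B v) hv0 hvc.1 (hφ.smul_axis (neg_ne_zero.mpr hvc.2))
      (fun x => by simp [hφB]) using 1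
    refine LinearEquiv.ext fun x => ?_
    rw [← ClassicalSimple.smul_eq_apply, ClassicalSimple.spTransv_smul, tv_apply hv0,
      ← LinearMap.IsAlt.neg hA v x]
    simp
  exact (htop ▸ Subgroup.mem_top (⟨f, h⟩ : ClassicalSimple.SpB B) :
    (⟨f, h⟩ : ClassicalSimple.SpB B) ∈ ((resW hH hC).range).comap (ClassicalSimple.SpB B).subtype)

/-- A class induces the special linear group or a symplectic group on the span of its centres. -/
theorem classify (hH : Setup H) (hC : IsClass H C) :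
    ((resW hH hC).range : Set (spanS C ≃ₗ[ZMod p] spanS C)) =
        {f : spanS C ≃ₗ[ZMod p] spanS C | LinearMap.det (f : spanS C →ₗ[ZMod p] spanS C) = 1} ∨
      ∃ B : LinearMap.BilinForm (ZMod p) (spanS C), B.IsAlt ∧ B.Nondegenerate ∧
        ((resW hH hC).range : Set (spanS C ≃ₗ[ZMod p] spanS C)) = {f : spanS C ≃ₗ[ZMod p] spanS C | ∀ x y, B (f x) (f y) = B x y} := by
  obtain ⟨⟨a, α⟩, haα⟩ := hC.nonempty
  by_cases h : 2 ≤ finrank (ZMod p) (Ax H a)
  · exact Or.inl (Set.ext (range_eq_det_one hH hC fun b hb => finrank_ax_eq hH hC ⟨α, haα⟩ hb ▸ h))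
  · obtain ⟨B, hA, hN, hB⟩ := exists_form hH hC fun b hb => by
      rw [finrank_ax_eq hH hC hb ⟨α, haα⟩]; omega
    exact Or.inr ⟨B, hA, hN, Set.ext (range_eq_isom hH hC B hA hN hB)⟩

end Cfsg.Agent.McLaughlin
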