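import Cfsg.Agent.Lib.McLaughlin.Classify

/-!
# Decomposition of a group generated by transvections
-/

set_option autoImplicit false
set_option linter.style.haveILetI false

namespace Cfsg.Agent.McLaughlin

open Module

variable {p : ℕ} [Fact p.Prime] {V : Type*} [AddCommGroup V] [Module (ZMod p) V]

/-- The contragredient representation. -/
def contra : (V ≃ₗ[ZMod p] V) →* (Dual (ZMod p) V ≃ₗ[ZMod p] Dual (ZMod p) V) where
  toFun g := g.symm.dualMap
  map_one' := rfl
  map_mul' _ _ := rfl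

theorem contra_apply (g : V ≃ₗ[ZMod p] V) (χ : Dual (ZMod p) V) (x : V) : contra g χ x = χ (g.symm x) := rfl

variable [Finite V]

theorem contra_injective : Function.Injective (contra (p := p) (V := V)) := by
  rw [injective_iff_map_eq_one]
  intro g hg
  haveI : Module.Finite (ZMod p) V := Module.Finite.of_finite
  refine LinearEquiv.ext fun x => ?_
  have key : g.symm x = x := (Module.forall_dual_apply_eq_zero_iff (ZMod p) _).mp (fun χ => by
    rw [map_sub, ← contra_apply, hg]; exact sub_self _) |> sub_eq_zero.mp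
  exact (g.symm_apply_eq.mp key).symm

omit [Finite V] in
theorem contra_tv {a : V} {φ : Dual (ZMod p) V} (h : φ a = 0) :
    contra (tv a φ) = tv φ (-Dual.eval (ZMod p) V a) := by
  refine LinearEquiv.ext fun χ => LinearMap.ext fun x => ?_
  rw [contra_apply, tv_apply (show (-Dual.eval (ZMod p) V a) φ = 0 by simp [h])]
  show χ ((tv a φ)⁻¹ x) = _
  rw [tv_inv h, tv_apply (by simp [h])]
  simp [mul_comm]

variable {H : Subgroup (V ≃ₗ[ZMod p] V)} {C D : Set (V × Dual (ZMod p) V)}

theorem mem_contra {a : V} {φ : Dual (ZMod p) V} (h : Mem H a φ) :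
    Mem (H.map contra) φ (-Dual.eval (ZMod p) V a) := by
  haveI : Module.Finite (ZMod p) V := Module.Finite.of_finite
  refine ⟨h.2.1, fun e => h.1 ?_, by simp [h.2.2.1], ⟨tv a φ, h.2.2.2, contra_tv h.2.2.1⟩⟩
  rw [neg_eq_zero] at e
  exact (Module.forall_dual_apply_eq_zero_iff (ZMod p) a).mp fun χ => LinearMap.congr_fun e χ

theorem exists_of_mem_contra {φ : Dual (ZMod p) V} {Φ : Dual (ZMod p) (Dual (ZMod p) V)}
    (h : Mem (H.map contra) φ Φ) : ∃ a, Mem H a φ ∧ Φ = -Dual.eval (ZMod p) V a := by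
  haveI : Module.Finite (ZMod p) V := Module.Finite.of_finite
  obtain ⟨a, ha⟩ := (Module.evalEquiv (ZMod p) V).surjective (-Φ)
  have hΦ : Φ = -Dual.eval (ZMod p) V a := by
    rw [← neg_neg Φ, ← ha]
    rfl
  subst hΦ
  have h0 : φ a = 0 := by simpa using h.2.2.1
  refine ⟨a, ⟨fun e => h.2.1 (by simp [e]), h.1, h0, ?_⟩, rfl⟩
  obtain ⟨g, hg, he⟩ := h.2.2.2
  rw [← contra_tv h0] at he
  exact contra_injective he ▸ hg

theorem setup_contra (hH : Setup H) : Setup (H.map contra) := by
  refine ⟨hH.odd, ?_, fun N hN hp => ?_⟩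
  · refine (Subgroup.map_mono hH.gen).trans ?_
    rw [MonoidHom.map_closure, Subgroup.closure_le]
    rintro _ ⟨_, ⟨a, φ, h, rfl⟩, rfl⟩
    exact Subgroup.subset_closure ⟨_, _, mem_contra h, (contra_tv h.2.2.1).symm⟩
  · let e := Subgroup.equivMapOfInjective H contra contra_injective
    have h1 := hH.noNormal (N.comap e.toMonoidHom) (hN.comap _) (hp.comap_of_injective _ e.injective)
    rw [Subgroup.eq_bot_iff_forall] at h1 ⊢
    intro x hx
    obtain ⟨y, rfl⟩ := e.surjective x
    rw [h1 y hx, map_one]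

theorem isClass_contra (hC : IsClass H C) :
    IsClass (H.map contra) ((fun x => (x.2, -Dual.eval (ZMod p) V x.1)) '' C) := by
  have hadj : ∀ x y : V × Dual (ZMod p) V,
      Adj (x.2, -Dual.eval (ZMod p) V x.1) (y.2, -Dual.eval (ZMod p) V y.1) ↔ Adj x y := fun x y => by
    simp [Adj, or_comm]
  refine ⟨hC.nonempty.image _, ?_, ?_, ?_⟩
  · rintro _ ⟨x, hx, rfl⟩
    exact mem_contra (hC.mem x hx)
  · rintro _ ⟨x, hx, rfl⟩ ⟨φ, Φ⟩ hy h
    obtain ⟨a, ha, rfl⟩ := exists_of_mem_contra hy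
    exact ⟨(a, φ), hC.adj x hx (a, φ) ha ((hadj x (a, φ)).mp h), rfl⟩
  · rintro _ ⟨x, hx, rfl⟩ _ ⟨y, hy, rfl⟩
    have h := hC.conn x hx y hy
    clear hy
    induction h with
    | refl => exact Relation.ReflTransGen.refl
    | @tail u v _ huv ih =>
      exact ih.tail ⟨⟨u, huv.1, rfl⟩, ⟨v, huv.2.1, rfl⟩, (hadj u v).mpr huv.2.2⟩

theorem spanS_sup_fixS (hH : Setup H) (hC : IsClass H C) : spanS C ⊔ fixS C = ⊤ := by
  haveI : Module.Finite (ZMod p) V := Module.Finite.of_finite
  haveI : Finite (Dual (ZMod p) V) := Finite.of_injective (fun f : Dual (ZMod p) V => (⇑f : V → ZMod p))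
    DFunLike.coe_injective
  have h := spanS_inf_fixS (setup_contra hH) (isClass_contra hC)
  have h1 : spanS ((fun x => (x.2, -Dual.eval (ZMod p) V x.1)) '' C) = Submodule.span (ZMod p) (Prod.snd '' C) := by
    rw [spanS, Set.image_image]
  have h2 : fixS C = (Submodule.span (ZMod p) (Prod.snd '' C)).dualCoannihilator := by
    ext x
    rw [Submodule.mem_dualCoannihilator]
    refine ⟨fun hx φ hφ => ?_, fun hx y hy => hx _ (Submodule.subset_span ⟨y, hy, rfl⟩)⟩
    exact (Submodule.span_le (p := LinearMap.ker (Dual.eval (ZMod p) V x))).mpr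
      (by rintro _ ⟨y, hy, rfl⟩; exact hx y hy) hφ
  have h3 : (spanS C).dualAnnihilator ≤ fixS ((fun x => (x.2, -Dual.eval (ZMod p) V x.1)) '' C) := by
    rintro χ hχ _ ⟨y, hy, rfl⟩
    rw [Submodule.mem_dualAnnihilator] at hχ
    simpa using hχ _ (Submodule.subset_span ⟨y, hy, rfl⟩)
  rw [← Subspace.dualAnnihilator_dualCoannihilator_eq (W := spanS C ⊔ fixS C), Submodule.dualAnnihilator_sup_eq,
    h2, Subspace.dualCoannihilator_dualAnnihilator_eq]
  have h4 : (spanS C).dualAnnihilator ⊓ Submodule.span (ZMod p) (Prod.snd '' C) = ⊥ :=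
    eq_bot_iff.mpr (le_trans (le_inf inf_le_right (inf_le_left.trans h3)) (h1 ▸ h.le))
  rw [h4, Submodule.dualCoannihilator_bot]

/-- The component of a pair. -/
def comp (H : Subgroup (V ≃ₗ[ZMod p] V)) (x : V × Dual (ZMod p) V) : Set (V × Dual (ZMod p) V) :=
  {y | Relation.ReflTransGen (fun u v => Mem H u.1 u.2 ∧ Mem H v.1 v.2 ∧ Adj u v) x y}

omit [Finite V] in
theorem mem_of_comp {x y : V × Dual (ZMod p) V} (hx : Mem H x.1 x.2) (hy : y ∈ comp H x) : Mem H y.1 y.2 := by
  rcases Relation.ReflTransGen.cases_tail hy with rfl | ⟨z, -, h⟩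
  exacts [hx, h.2.1]

omit [Finite V] in
theorem isClass_comp {x : V × Dual (ZMod p) V} (hx : Mem H x.1 x.2) : IsClass H (comp H x) := by
  have hfrom : ∀ y ∈ comp H x,
      Relation.ReflTransGen (fun u v => u ∈ comp H x ∧ v ∈ comp H x ∧ Adj u v) x y := by
    intro y hy
    induction hy with
    | refl => exact Relation.ReflTransGen.refl
    | @tail u v hu huv ih => exact ih.tail ⟨hu, hu.tail huv, huv.2.2⟩
  refine ⟨⟨x, Relation.ReflTransGen.refl⟩, fun y hy => mem_of_comp hx hy,
    fun y hy z hz h => Relation.ReflTransGen.tail hy ⟨mem_of_comp hx hy, hz, h⟩, fun y hy z hz => ?_⟩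
  have hsymm : Relation.ReflTransGen (fun u v => u ∈ comp H x ∧ v ∈ comp H x ∧ Adj u v) y x := by
    have h := hfrom y hy
    clear hy
    induction h with
    | refl => exact Relation.ReflTransGen.refl
    | tail _ huv ih => exact Relation.ReflTransGen.head ⟨huv.2.1, huv.1, Adj.symm huv.2.2⟩ ih
  exact hsymm.trans (hfrom z hz)

omit [Finite V] in
theorem class_subset (hC : IsClass H C) (hD : IsClass H D) {x : V × Dual (ZMod p) V} (h1 : x ∈ C) (h2 : x ∈ D) :
    D ⊆ C := by
  intro y hy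
  have h := hD.conn x h2 y hy
  clear hy
  induction h with
  | refl => exact h1
  | tail _ huv ih => exact hC.adj _ ih _ (hD.mem _ huv.2.1) huv.2.2

omit [Finite V] in
theorem not_adj_of_ne (hC : IsClass H C) (hD : IsClass H D) (hne : C ≠ D) {x y : V × Dual (ZMod p) V}
    (hx : x ∈ C) (hy : y ∈ D) : x.2 y.1 = 0 ∧ y.2 x.1 = 0 := by
  by_contra hcon
  have hadj : Adj x y := not_and_or.mp hcon
  have hyC := hC.adj x hx y (hD.mem y hy) hadj
  exact hne (Set.Subset.antisymm (class_subset hD hC hy hyC) (class_subset hC hD hyC hy))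

theorem spanS_le_fixS (hC : IsClass H C) (hD : IsClass H D) (hne : C ≠ D) : spanS D ≤ fixS C :=
  Submodule.span_le.mpr (by
    rintro _ ⟨y, hy, rfl⟩ x hx
    exact (not_adj_of_ne hC hD hne hx hy).1)

omit [Finite V] in
theorem grp_fix (hC : IsClass H C) {g : V ≃ₗ[ZMod p] V} (hg : g ∈ grp C) {v : V} (hv : v ∈ fixS C) : g v = v := by
  induction hg using Subgroup.closure_induction with
  | mem t ht =>
    obtain ⟨x, hx, rfl⟩ := ht
    show tv x.1 x.2 v = v
    rw [tv_apply (hC.mem x hx).2.2.1, hv x hx, zero_smul, add_zero]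
  | one => rfl
  | mul a b _ _ ha hb => rw [LinearEquiv.mul_apply, hb, ha]
  | inv a _ ha => exact a.symm_apply_eq.mpr ha.symm

omit [Finite V] in
theorem conj_grp (hH : Setup H) (hC : IsClass H C) {g : V ≃ₗ[ZMod p] V} (hg : g ∈ H)
    {k : V ≃ₗ[ZMod p] V} (hk : k ∈ grp C) : g * k * g⁻¹ ∈ grp C := by
  have key : ∀ a φ, Mem H a φ → ∀ k ∈ grp C, tv a φ * k * (tv a φ)⁻¹ ∈ grp C := by
    intro a φ ha k hk
    have hle : grp C ≤ (grp C).comap (MulAut.conj (tv a φ)).toMonoidHom := by
      refine (Subgroup.closure_le _).mpr ?_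
      rintro _ ⟨x, hx, rfl⟩
      show tv a φ * tv x.1 x.2 * (tv a φ)⁻¹ ∈ grp C
      rw [conj_tv _ (hC.mem x hx).2.2.1]
      refine Subgroup.subset_closure ⟨_, conj_mem hH hC hx ha, ?_⟩
      show tv _ _ = tv _ _
      congr 1
      · rw [tv_apply ha.2.2.1]
      · refine LinearMap.ext fun v => ?_
        show _ = x.2 ((tv a φ)⁻¹ v)
        rw [tv_inv ha.2.2.1, tv_apply (by simp [ha.2.2.1])]
        simp [mul_comm]
        ring
    exact hle hk
  have hg' := hH.gen hg
  clear hg
  induction hg' using Subgroup.closure_induction'' generalizing k with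
  | mem t ht =>
    obtain ⟨a, φ, ha, rfl⟩ := ht
    exact key a φ ha k hk
  | inv_mem t ht =>
    obtain ⟨a, φ, ha, rfl⟩ := ht
    have h := key (-a) φ (by simpa using ha.smul (neg_ne_zero.mpr (one_ne_zero (α := ZMod p)))) k hk
    rwa [← tv_inv ha.2.2.1] at h
  | one => simpa using hk
  | mul u v _ _ ihu ihv =>
    have h := ihu (ihv hk)
    rwa [show u * (v * k * v⁻¹) * u⁻¹ = u * v * k * (u * v)⁻¹ by group] at h

/-- A transvection is given by a pair. -/
theorem exists_pair {t : V ≃ₗ[ZMod p] V} (ho : orderOf t = p)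
    (hr : finrank (ZMod p) ↥(LinearMap.ker ((t : V →ₗ[ZMod p] V) - LinearMap.id)) + 1 = finrank (ZMod p) V) :
    ∃ (a : V) (φ : Dual (ZMod p) V), a ≠ 0 ∧ φ ≠ 0 ∧ φ a = 0 ∧ tv a φ = t := by
  haveI : Module.Finite (ZMod p) V := Module.Finite.of_finite
  set f := (t : V →ₗ[ZMod p] V) - LinearMap.id with hf
  have hrange : finrank (ZMod p) (LinearMap.range f) = 1 := by
    have := LinearMap.finrank_range_add_finrank_ker f
    omega
  obtain ⟨⟨a, haR⟩, ha0, hall⟩ := finrank_eq_one_iff'.mp hrange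
  have ha : a ≠ 0 := fun e => ha0 (Subtype.ext e)
  let e := LinearEquiv.toSpanNonzeroSingleton (ZMod p) V a ha
  have hmem : ∀ x, f x ∈ Submodule.span (ZMod p) {a} := fun x => by
    obtain ⟨c, hc⟩ := hall ⟨f x, LinearMap.mem_range_self f x⟩
    exact Submodule.mem_span_singleton.mpr ⟨c, congrArg Subtype.val hc⟩
  let φ : Dual (ZMod p) V := e.symm.toLinearMap ∘ₗ f.codRestrict _ hmem
  have hφ : ∀ x, t x = x + φ x • a := fun x => by
    have h := congrArg Subtype.val (e.apply_symm_apply (f.codRestrict _ hmem x))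
    change φ x • a = f x at h
    rw [h, hf]
    simp
  have hφa : φ a = 0 := by
    have hpow : ∀ n : ℕ, (t ^ n) a = (1 + φ a) ^ n • a := fun n => by
      induction n with
      | zero => simp
      | succ n ih => rw [pow_succ', LinearEquiv.mul_apply, ih, map_smul, hφ, pow_succ]; module
    have h := hpow p
    have h1 : t ^ p = 1 := by have h2 := pow_orderOf_eq_one t; rwa [ho] at h2
    rw [h1, ZMod.pow_card, LinearEquiv.coe_one, id_eq] at h
    have h' : φ a • a = 0 := by
      have := h.symm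
      rwa [add_smul, one_smul, add_eq_left] at this
    exact (smul_eq_zero.mp h').resolve_right ha
  have ht : tv a φ = t := LinearEquiv.ext fun x => (tv_apply hφa x).trans (hφ x).symm
  refine ⟨a, φ, ha, fun e0 => ?_, hφa, ht⟩
  rw [tv_eq_one (Or.inr e0)] at ht
  rw [← ht, orderOf_one] at ho
  exact (Fact.out : p.Prime).one_lt.ne ho

end Cfsg.Agent.McLaughlin
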