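import Cfsg.Agent.Lib.McLaughlin.Class

/-!
# The centres of a class are the nonzero vectors of their span
-/

set_option autoImplicit false
set_option linter.style.haveILetI false

namespace Cfsg.Agent.McLaughlin

open Module

variable {p : ℕ} [Fact p.Prime] {V : Type*} [AddCommGroup V] [Module (ZMod p) V] [Finite V]
variable {H : Subgroup (V ≃ₗ[ZMod p] V)} {C : Set (V × Dual (ZMod p) V)} {a b x : V}

/-- A sum of two centres is a centre or is fixed by the class. -/
theorem sum_pt_or (hH : Setup H) (hC : IsClass H C) (ha : Pt C a) (hb : Pt C b) :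
    Pt C (a + b) ∨ a + b ∈ fixS C := by
  by_contra hcon
  rw [not_or] at hcon
  obtain ⟨hnP, hnK⟩ := hcon
  have hab : ¬ Nb H a b := fun h => hnP (by simpa [add_comm] using line hH hC hb h 1)
  have hba : ¬ Nb H b a := fun h => hab (Nb.symm hH hC hb ha h)
  have hα : ∀ α ∈ Ax H a, α b = 0 := fun α h => by_contra fun e => hab ⟨α, h, e⟩
  have hβ : ∀ β ∈ Ax H b, β a = 0 := fun β h => by_contra fun e => hba ⟨β, h, e⟩
  have key : ∀ d, Pt C d → Nb H a d → Nb H b d → ∀ δ ∈ Ax H d, δ (a + b) = 0 := by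
    intro d hd had ⟨β, hβb, hβd⟩ δ hδ
    by_contra hne
    have hy : Pt C (d + (1 : ZMod p) • a) := line hH hC hd had 1
    rw [one_smul] at hy
    have hby : Nb H b (d + a) := ⟨β, hβb, by rwa [map_add, hβ β hβb, add_zero]⟩
    have hz := line hH hC hy hby 1
    rw [one_smul] at hz
    have hdz : Nb H d (d + a + b) := ⟨δ, hδ, by rwa [add_assoc, map_add, Ax.apply_self hδ, zero_add]⟩
    have := line hH hC hz hdz (-1)
    exact hnP (by simpa [add_assoc, add_comm, add_left_comm] using this)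
  obtain ⟨c, hc, ⟨α, hαa, hαc⟩, ⟨β, hβb, hβc⟩⟩ := exists_common hH hC ha hb
  have hγ : ∀ γ ∈ Ax H c, γ (a + b) = 0 := key c hc ⟨α, hαa, hαc⟩ ⟨β, hβb, hβc⟩
  obtain ⟨d, hd, δ, hδ, hδx⟩ := exists_ne_of_not_mem_fixS hC hnK
  have hδm := Ax.mem_of_apply hδ hδx
  -- move `d` to a neighbour of `c`, keeping the value at `a + b`
  obtain ⟨d', δ', hd', hδ', hcd'⟩ : ∃ d' δ', (d', δ') ∈ C ∧ δ' (a + b) ≠ 0 ∧ Nb H c d' := by
    by_cases hcd : Nb H c d
    · exact ⟨d, δ, mem_class hH hC hd hδm, hδx, hcd⟩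
    have hac : ∀ γ ∈ Ax H c, γ d = 0 := fun γ h => by_contra fun e => hcd ⟨γ, h, e⟩
    obtain ⟨γ, hγc, hγa⟩ := Nb.symm hH hC ha hc ⟨α, hαa, hαc⟩
    obtain ⟨γ', hγ'c, hγ'b⟩ := Nb.symm hH hC hb hc ⟨β, hβb, hβc⟩
    by_cases hda : Nb H a d
    · obtain ⟨α', hα', hα'd⟩ := hda
      have h := conj_mem hH hC (mem_class hH hC hd hδm) (Ax.mem_of_apply hα' hα'd)
      refine ⟨_, _, h, ?_, γ, hγc, ?_⟩
      · simpa [hα α' hα', Ax.apply_self hα'] using hδx
      · simpa [hac γ hγc, hα'd] using hγa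
    · -- then `d` is a neighbour of `b`
      have hδa : δ a = 0 := by_contra fun e => hda (Nb.symm hH hC hd ha ⟨δ, hδ, e⟩)
      obtain ⟨β', hβ', hβ'd⟩ := Nb.symm hH hC hd hb ⟨δ, hδ, by simpa [hδa] using hδx⟩
      have h := conj_mem hH hC (mem_class hH hC hd hδm) (Ax.mem_of_apply hβ' hβ'd)
      refine ⟨_, _, h, ?_, γ', hγ'c, ?_⟩
      · simpa [hβ β' hβ', Ax.apply_self hβ'] using hδx
      · simpa [hac γ' hγ'c, hβ'd] using hγ'b
  obtain ⟨γ, hγc, hγd⟩ := hcd'
  have hγm := Ax.mem_of_apply hγc hγd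
  -- and further to a common neighbour of `a` and `b`
  obtain ⟨t, h1, h2⟩ := exists_two_avoid hH (x := α d') (y := γ d' * α c) (z := β d') (w := γ d' * β c)
    (Or.inl (mul_ne_zero hγd hαc)) (Or.inl (mul_ne_zero hγd hβc))
  have hd'' : (d' + (t * γ d') • c, δ' - (t * δ' c) • γ) ∈ C := by
    by_cases ht : t = 0
    · simpa [ht] using hd'
    have h := conj_mem hH hC hd' (hγm.smul_axis ht)
    simpa [smul_smul, mul_comm] using h
  refine hδ' ?_
  have h3 := key _ ⟨_, hd''⟩ ⟨α, hαa, ?_⟩ ⟨β, hβb, ?_⟩ _ (Pt.mem_ax hC hd'')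
  · simpa [hγ γ hγc] using h3
  · simpa [mul_assoc] using h1
  · simpa [mul_assoc] using h2

/-- Two centres whose sum is fixed by the class are opposite. -/
theorem add_eq_zero_of_mem_fixS (hH : Setup H) (hC : IsClass H C) (ha : Pt C a) (hb : Pt C b)
    (hr : a + b ∈ fixS C) : a + b = 0 := by
  by_contra hne
  have hfix : ∀ e, Pt C e → ∀ ε ∈ Ax H e, ε (a + b) = 0 := fun e he ε hε => by
    by_cases h0 : ε = 0
    · simp [h0]
    · exact hr _ (mem_class hH hC he (Ax.mem_of hε h0))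
  have hβa : ∀ β ∈ Ax H b, β a = 0 := fun β h => by
    simpa [Ax.apply_self h] using hfix b hb β h
  have hαb : ∀ α ∈ Ax H a, α b = 0 := fun α h => by
    simpa [Ax.apply_self h] using hfix a ha α h
  -- `a` and `b` have the same neighbours
  have hperp : ∀ e, Pt C e → (∀ α ∈ Ax H a, α e = 0) → ∀ β ∈ Ax H b, β e = 0 := by
    intro e he h β hβ
    by_contra hne'
    obtain ⟨ε, hε, hεb⟩ := Nb.symm hH hC hb he ⟨β, hβ, hne'⟩
    have hεa : ε a ≠ 0 := fun h0 => hεb (by simpa [h0] using hfix e he ε hε)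
    obtain ⟨α, hα, hαe⟩ := Nb.symm hH hC he ha ⟨ε, hε, hεa⟩
    exact hαe (h α hα)
  obtain ⟨c, hc, ⟨α, hα, hαc⟩, ⟨β, hβ, hβc⟩⟩ := exists_common hH hC ha hb
  have hαm := Ax.mem_of_apply hα hαc
  have hβm := Ax.mem_of_apply hβ hβc
  by_cases huniq : ∀ χ ∈ Ax H a, χ c = 0 → χ = 0
  swap
  · -- an axis at `a` vanishing at the neighbour `c` is an axis at `b`
    push Not at huniq
    obtain ⟨χ, hχ, hχc, hχ0⟩ := huniq
    have hχm := Ax.mem_of hχ hχ0
    obtain ⟨ε, hε, hεa⟩ := Nb.symm hH hC ha hc ⟨α, hα, hαc⟩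
    have h1 : Mem H c χ := (Ax.mem_of_apply hε hεa).oneway hχm hεa hχc
    have h2 : Mem H b χ := hβm.oneway h1 hβc (hαb χ hχ)
    exact not_mem_fixS hH hC ⟨χ, same_axis hH hC (mem_class hH hC ha hχm) (hχm.add h2 hne)⟩ hr
  -- so `A a` is a line and the product of two transvections stabilises a chain
  obtain ⟨β', hβ', hv⟩ := exists_scaled hβ hβc hαc
  have hline : ∀ α' ∈ Ax H a, α' = (α' c * (α c)⁻¹) • α := fun α' hα' => by
    refine sub_eq_zero.mp (huniq _ (sub_mem hα' (Submodule.smul_mem _ _ hα)) ?_)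
    simp [hαc]
  have heq : spanS C ≤ LinearMap.ker (β' - α) := by
    refine Submodule.span_le.mpr ?_
    rintro _ ⟨⟨e, ε⟩, he, rfl⟩
    show β' e - α e = 0
    obtain ⟨k, hk⟩ : ∃ k, k = α e * (α c)⁻¹ := ⟨_, rfl⟩
    have hP : Pt C (e + (-k) • c) ∨ e + (-k) • c ∈ fixS C := by
      by_cases hk0 : k = 0
      · refine Or.inl ?_
        rw [hk0, neg_zero, zero_smul, add_zero]
        exact ⟨ε, he⟩
      · exact sum_pt_or hH hC ⟨ε, he⟩ (hc.smul hH hC (neg_ne_zero.mpr hk0))
    have hae : α (e + (-k) • c) = 0 := by simp [hk, hαc]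
    have hbe : β' (e + (-k) • c) = 0 := by
      rcases hP with hP | hP
      · exact hperp _ hP (fun α' hα' => by rw [hline α' hα', LinearMap.smul_apply, hae, smul_zero]) _ (Or.inr hβ')
      · exact hP _ (mem_class hH hC hb hβ')
    rw [map_add, map_smul] at hae hbe
    rw [hv] at hbe
    linear_combination hbe - hae
  have hg := stable_eq_one hH (R := fixS C ⊓ spanS C) (W := spanS C)
    (fun g hg x hx => ⟨fixS_invariant hH hC g hg x hx.1, spanS_invariant hH hC g hg x hx.2⟩)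
    (spanS_invariant hH hC) (mul_mem hαm.2.2.2 hβ'.2.2.2) ?_ ?_ ?_
  · have h := LinearEquiv.congr_fun hg c
    rw [LinearEquiv.mul_apply, tv_apply hβ'.2.2.1, tv_apply hαm.2.2.1, LinearEquiv.coe_one, id_eq, map_add,
      map_smul, hαb α hα, smul_zero, add_zero, hv, add_assoc, add_eq_left, ← smul_add, smul_eq_zero] at h
    exact hne (add_comm b a ▸ h.resolve_left hαc)
  all_goals
    intro x
    rw [LinearEquiv.mul_apply, tv_apply hβ'.2.2.1, tv_apply hαm.2.2.1, map_add, map_smul, hαb α hα, smul_zero,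
      add_zero]
  · intro hx
    rw [hx.1 _ (mem_class hH hC hb hβ'), hx.1 _ (mem_class hH hC ha hαm)]
    simp
  · intro hx
    rw [show β' x = α x from sub_eq_zero.mp (heq hx)]
    rw [show x + α x • b + α x • a - x = α x • (a + b) by module]
    exact Submodule.smul_mem _ _ ⟨hr, add_mem (mem_spanS ha) (mem_spanS hb)⟩
  · rw [show x + β' x • b + α x • a - x = β' x • b + α x • a by abel]
    exact add_mem (Submodule.smul_mem _ _ (mem_spanS hb)) (Submodule.smul_mem _ _ (mem_spanS ha))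

/-- The nonzero vectors of the span of the class are centres. -/
theorem pt_of_mem_spanS (hH : Setup H) (hC : IsClass H C) (hx : x ∈ spanS C) (hne : x ≠ 0) : Pt C x := by
  suffices h : x = 0 ∨ Pt C x from h.resolve_left hne
  clear hne
  induction hx using Submodule.span_induction with
  | mem y hy => obtain ⟨⟨e, ε⟩, he, rfl⟩ := hy; exact Or.inr ⟨ε, he⟩
  | zero => exact Or.inl rfl
  | add u v _ _ hu hv =>
    rcases hu with rfl | hu
    · simpa using hv
    rcases hv with rfl | hv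
    · exact Or.inr (by simpa using hu)
    rcases sum_pt_or hH hC hu hv with h | h
    exacts [Or.inr h, Or.inl (add_eq_zero_of_mem_fixS hH hC hu hv h)]
  | smul c u _ hu =>
    by_cases hc : c = 0
    · exact Or.inl (by simp [hc])
    rcases hu with rfl | hu
    exacts [Or.inl (smul_zero c), Or.inr (hu.smul hH hC hc)]

theorem spanS_inf_fixS (hH : Setup H) (hC : IsClass H C) : spanS C ⊓ fixS C = ⊥ := by
  rw [Submodule.eq_bot_iff]
  intro y hy
  by_contra hne
  exact not_mem_fixS hH hC (pt_of_mem_spanS hH hC hy.1 hne) hy.2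

end Cfsg.Agent.McLaughlin
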